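import Cfsg.Agent.H722.MTrace
import Cfsg.Agent.KFacts.MonsterE
import Cfsg.Agent.MonsterP.Equiv
import Cfsg.Agent.H516.OddFrame

/-!
# S4094, S4095, S4096: the row of the Monster, `p ≠ 3` (helper722, task 566)

* `pair_or` : two axes have inner product `3/16` or `(t_x t_y)^12 = 1` (table of pairs);
* `p ≥ 7` : the products of two involutions of type 2A have order at most 6;
* `p = 5` : the inner product of `w` and `g w` is `3/16` for all axes `w`; the trace is `1 + 4189/8`, not an integer.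
-/

set_option autoImplicit false

namespace Cfsg.Agent.H722.MFive

open Cfsg Cfsg.Agent.MonsterX Cfsg.Agent.MonsterX.Space
open Cfsg.Agent.MonsterX.Conc Cfsg.Agent.MonsterX.InstData Cfsg.Agent.MonsterX.Model
open Cfsg.Agent.MonsterX.OrdChk Cfsg.Agent.MonsterX.OrdLe Cfsg.Agent.MonsterX.PairZero
open Cfsg.Agent.MonsterX.CertUTab Cfsg.Agent.MonsterX.FieldsP Cfsg.Agent.MonsterX.CertPairs
open Cfsg.Agent.MonsterX.MainBasic Cfsg.Agent.MonsterX.MainPack

theorem tab12 : ∀ j < 12, ∀ m < nr j, ∀ b : Bool, (vb j m b == 48 ||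
    (tabs.getD j []).any fun t => t.any fun p => p.2 == wd j m b && Nat.blt p.1 4) = true := by
  decide +kernel

theorem bnd_dvd {k : ℕ} (h : k < 4) : bnd k ∣ 12 := by
  interval_cases k <;> decide

theorem comm_t₀ {g : V ≃ₗ[ℚ] V} (hg : g ∈ M.G) (h : g M.a₀ = M.a₀) : g * M.t₀ = M.t₀ * g :=
  (MainTrans.comm_iff Instance.mGroup Instance.mRep Instance.mLat InstanceFinal.mOrbit Instance.mTrans hg).2 h

/-- The pairs of the table. -/
theorem pair_tab {j m : ℕ} (hj : j < 12) (hm : m < nr j) (b : Bool) : vb j m b = 48 ∨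
    (M.t₀ * ((W (wd j m b) * W (bj j)) * M.t₀ * (W (wd j m b) * W (bj j))⁻¹)) ^ 12 = 1 := by
  have h := tab12 j hj m hm b
  rw [Bool.or_eq_true] at h
  rcases h with h | h
  · exact Or.inl (eq_of_beq h)
  · right
    rw [List.any_eq_true] at h
    obtain ⟨t, ht, h⟩ := h
    rw [List.any_eq_true] at h
    obtain ⟨p, hp, h⟩ := h
    rw [Bool.and_eq_true] at h
    have h2 : p.2 = wd j m b := eq_of_beq h.1
    have h4 : p.1 < 4 := Nat.le_of_ble_eq_true h.2
    have hI := Instance.inv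
    have hl : Lt (bj j ++ p.2) := by
      intro n hn
      rcases List.mem_append.1 hn with hn | hn
      · exact OrdLe.lt_bj j hj n hn
      · exact lt_tab j hj t ht p hp n hn
    have htG : M.t₀ ∈ M.G := OrdLe.W_mem_G hI (w := [13, 14]) (by intro n hn; simp at hn; omega)
    have hk : pairC p.1 (bj j ++ p.2) = true := by
      rw [bj_eq j hj]
      exact allP_spec (tabs_ok j hj t ht) p hp
    have h1 := pairC_sound hI OrdInv.t₀_sq (fun g hg h => comm_t₀ hg h) htG hl (OrdLe.W_mem_G hI hl) hk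
    rw [W_append, h2] at h1
    obtain ⟨c, hc⟩ := bnd_dvd h4
    rw [hc, pow_mul, h1, one_pow]

/-- The pairs `(k a₀, d j)`. -/
theorem pair_C (j : Fin 12) {k : V ≃ₗ[ℚ] V} (hk : k ∈ M.C) : M.F (k M.a₀) (M.d j) = 3 / 16 ∨
    ((k * M.t₀ * k⁻¹) * (W (bj j.1) * M.t₀ * (W (bj j.1))⁻¹)) ^ 12 = 1 := by
  have hCG : M.C ≤ M.G := fun x hx => Subgroup.subset_closure (Or.inl hx)
  obtain ⟨i, l, hl, hd, e⟩ := Instance.tab.cov j (k M.a₀) ⟨k, hk, rfl⟩
  set P := Instance.words with hP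
  have hu := P.eq j i
  rw [e, Instance.tab.F_eq C_isom j i hl hd, Fa₀ P]
  rcases pair_tab j.2 (P.lt j i) (P.b j i) with h | h
  · left
    rw [h]; norm_num
  · right
    rw [← hu] at h
    set u := Instance.tab.u j i with hu'
    set w := W (bj j.1) with hw'
    have hw : w ∈ M.G := W_bj_mem_G j.2
    have hwd : w M.a₀ = M.d j := (M_d' j).symm
    have huC : u ∈ M.C := Instance.tab.u_mem j i
    have h1 : k * M.t₀ * k⁻¹ = (l * u⁻¹) * M.t₀ * (l * u⁻¹)⁻¹ :=
      conj_t₀ (fun g hg => comm_t₀ (hCG hg)) hk (M.C.mul_mem hl (M.C.inv_mem huC)) e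
    have h2 : (w⁻¹ * l * w) * M.t₀ = M.t₀ * (w⁻¹ * l * w) := by
      refine comm_t₀ (M.G.mul_mem (M.G.mul_mem (M.G.inv_mem hw) (hCG hl)) hw) ?_
      show w⁻¹ (l (w M.a₀)) = M.a₀
      rw [hwd, hd, ← hwd]
      exact w.symm_apply_apply _
    have h3 : w * M.t₀ * w⁻¹ = (l * u⁻¹) * ((u * w) * M.t₀ * (u * w)⁻¹) * (l * u⁻¹)⁻¹ := by
      calc w * M.t₀ * w⁻¹ = w * (M.t₀ * (w⁻¹ * l * w)) * (w⁻¹ * l * w)⁻¹ * w⁻¹ := by group
        _ = w * ((w⁻¹ * l * w) * M.t₀) * (w⁻¹ * l * w)⁻¹ * w⁻¹ := by rw [h2]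
        _ = _ := by group
    have h4 : (k * M.t₀ * k⁻¹) * (w * M.t₀ * w⁻¹) =
        (l * u⁻¹) * (M.t₀ * ((u * w) * M.t₀ * (u * w)⁻¹)) * (l * u⁻¹)⁻¹ := by
      rw [h1, h3]; group
    rw [h4, conj_pow, h]; group

/-- **Two axes have inner product `3/16`, or the product of their involutions has order dividing 12.** -/
theorem pair_or {g : V ≃ₗ[ℚ] V} (hg : g ∈ M.G) : M.F M.a₀ (g M.a₀) = 3 / 16 ∨
    (M.t₀ * (g * M.t₀ * g⁻¹)) ^ 12 = 1 := by
  obtain ⟨j, h, hh, h1⟩ := G_X InstanceFinal.mOrbit hg (S_sub_X InstanceFinal.mOrbit a₀_mem_S)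
  change Fin 12 at j
  have hhG := C_le hh
  rcases pair_C j (M.C.inv_mem hh) with h2 | h2
  · left
    rw [h1, ← h2]
    have h3 := C_isom h⁻¹ (M.C.inv_mem hh) M.a₀ (h (M.d j))
    refine h3.symm.trans ?_
    have h4 : h⁻¹ (h (M.d j)) = M.d j := h.symm_apply_apply _
    rw [h4]
    rfl
  · right
    have e1 := MainTrans.conj_eq Instance.mGroup Instance.mRep Instance.mLat InstanceFinal.mOrbit Instance.mTrans hg
      (M.G.mul_mem hhG (W_bj_mem_G j.2)) (by
        rw [LinearEquiv.mul_apply, ← M_d', h1])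
    have e2 : M.t₀ * (g * M.t₀ * g⁻¹) =
        h * ((h⁻¹ * M.t₀ * h⁻¹⁻¹) * (W (bj j.1) * M.t₀ * (W (bj j.1))⁻¹)) * h⁻¹ := by
      rw [e1]
      group
    rw [e2, conj_pow, h2]
    group

/-- No element of the Monster has `F(w, g w) = 3/16` for all axes. -/
theorem not_const {g : V ≃ₗ[ℚ] V} (hg : g ∈ M.G) : ¬ ∀ x ∈ M.G, M.F (x M.a₀) (g (x M.a₀)) = 3 / 16 := by
  intro h
  have hfin := G_finite InstanceFinal.mOrbit
  have h1 : ∀ w ∈ H850.Exist2.Xf, F w (g w) = 3 / 16 := by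
    intro w hw
    obtain ⟨x, hx, rfl⟩ := MTrace.exists_of_mem hw
    rw [← M_a₀]
    exact h x hx
  have h2 := MTrace.trace_of_const hg h1
  have h3 : g ^ Nat.card M.G = 1 := by
    have := pow_card_eq_one' (x := (⟨g, hg⟩ : M.G))
    exact congrArg Subtype.val this
  obtain ⟨m, hm⟩ := MTrace.trace_int Nat.card_pos.ne' h3
  rw [hm] at h2
  have h4 : (4189 : ℚ) = 8 * ((m : ℚ) - 1) := by linarith
  have h5 : (4189 : ℤ) = 8 * (m - 1) := by exact_mod_cast h4
  omega

/-! ### The row -/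

section row

open Cfsg.Agent.H516 Subgroup

universe u

variable {L : Type u} [Group L] [Finite L] {p : ℕ} {a : MulAut L} {b : L}

omit [Finite L] in
/-- An involution is not fixed by a bad automorphism with a fixed subgroup of odd order. -/
theorem ne_of_sq (S : Sit p a b) {s : L} (hs : s * s = 1) (hs1 : s ≠ 1) : a s ≠ s := by
  intro h
  have h1 : s ∈ fixedSubgroup a := h
  have h2 : orderOf (⟨s, h1⟩ : fixedSubgroup a) = 2 := by
    rw [orderOf_eq_prime_iff]
    refine ⟨Subtype.ext (by show s ^ 2 = 1; rw [_root_.pow_two, hs]), fun h3 => hs1 (congrArg Subtype.val h3)⟩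
  have h3 := orderOf_dvd_natCard (⟨s, h1⟩ : fixedSubgroup a)
  rw [h2] at h3
  exact (Nat.not_even_iff_odd.2 S.odd) (even_iff_two_dvd.2 h3)

/-- **The row of the Monster, `p ≠ 3`.** -/
theorem row (h : Spor.IsoM L) (S : Sit p a b) (hp3 : p ≠ 3) : False := by
  obtain ⟨e₁⟩ := h
  obtain ⟨e₂⟩ := MonsterP.Equiv.equiv
  let e : L ≃* M.G := e₁.trans e₂
  obtain ⟨g, hg⟩ := KFacts.MonsterE.inner_model Instance.mGroup Instance.mRep Instance.mLat InstanceFinal.mOrbit
    Instance.mTrans (MulAut.congr e a)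
  have hconj : ∀ s : M.G, e (a (e.symm s)) = g * s * g⁻¹ := by
    intro s
    have h1 : MulAut.congr e a s = MulAut.conj g s := by rw [hg]
    exact h1
  have htG : M.t₀ ∈ M.G := C_le (Instance.mGroup.Q_le Instance.mRep.t₀_mem)
  have hsq : M.t₀ * M.t₀ = 1 := Instance.mRep.t₀_sq
  have hne : M.t₀ ≠ 1 := Instance.mRep.t₀_ne
  -- the order of the product of `t₀` and its conjugate
  have key : ∀ x : M.G, p ∣ orderOf ((⟨M.t₀, htG⟩ : M.G) * ((x⁻¹ * g * x) * ⟨M.t₀, htG⟩ * (x⁻¹ * g * x)⁻¹)) := by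
    intro x
    set t : M.G := ⟨M.t₀, htG⟩ with ht
    have htt : t * t = 1 := Subtype.ext hsq
    have ht1 : t ≠ 1 := fun h1 => hne (congrArg Subtype.val h1)
    set s : M.G := x * t * x⁻¹ with hs
    have hss : s * s = 1 := by
      rw [hs]
      calc x * t * x⁻¹ * (x * t * x⁻¹) = x * (t * t) * x⁻¹ := by group
        _ = 1 := by rw [htt]; group
    have hs1 : s ≠ 1 := by
      intro h1
      apply ht1
      rw [hs] at h1
      calc t = x⁻¹ * (x * t * x⁻¹) * x := by group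
        _ = 1 := by rw [h1]; group
    have h1 : a (e.symm s) ≠ e.symm s := by
      refine ne_of_sq S ?_ ?_
      · rw [← map_mul, hss, map_one]
      · intro h1
        apply hs1
        rw [← e.apply_symm_apply s, h1, map_one]
    rcases S.bad (e.symm s) with h2 | h2
    · exact absurd (inv_mul_eq_one.1 h2) h1
    · have h3 : e ((a (e.symm s))⁻¹ * e.symm s) = (g * s * g⁻¹)⁻¹ * s := by
        rw [map_mul, map_inv, hconj, e.apply_symm_apply]
      have h4 : orderOf ((a (e.symm s))⁻¹ * e.symm s) = orderOf ((g * s * g⁻¹)⁻¹ * s) := by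
        rw [← h3]
        exact (orderOf_injective e.toMonoidHom e.injective _).symm
      rw [h4] at h2
      have htinv : t⁻¹ = t := inv_eq_of_mul_eq_one_right htt
      have h5 : (g * s * g⁻¹)⁻¹ * s = x * (t * ((x⁻¹ * g * x) * t * (x⁻¹ * g * x)⁻¹))⁻¹ * x⁻¹ := by
        rw [hs]
        simp only [mul_inv_rev, inv_inv, htinv]
        group
      rw [h5] at h2
      have h6 : orderOf (x * (t * ((x⁻¹ * g * x) * t * (x⁻¹ * g * x)⁻¹))⁻¹ * x⁻¹) =
          orderOf (t * ((x⁻¹ * g * x) * t * (x⁻¹ * g * x)⁻¹)) := by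
        rw [← MulAut.conj_apply, MulEquiv.orderOf_eq, orderOf_inv]
      rwa [h6] at h2
  have hfin := G_finite InstanceFinal.mOrbit
  have hle : p ≤ 6 := by
    have h1 := six Instance.mGroup Instance.mRep Instance.mLat InstanceFinal.mOrbit Instance.mTrans
      InstanceFinal.mExtra.order_le (1⁻¹ * g * 1)
    exact (Nat.le_of_dvd (orderOf_pos _) (key 1)).trans h1
  have hp5 : p = 5 := by
    have h2 := S.prime
    have h3 := S.ne_two
    have h4 := h2.two_le
    interval_cases p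
    · exact absurd rfl h3
    · exact absurd rfl hp3
    · exact absurd h2 (by norm_num)
    · rfl
    · exact absurd h2 (by norm_num)
  refine not_const g.2 fun x hx => ?_
  have h1 : (x⁻¹ * (g : V ≃ₗ[ℚ] V) * x) ∈ M.G := M.G.mul_mem (M.G.mul_mem (M.G.inv_mem hx) g.2) hx
  rcases pair_or h1 with h2 | h2
  · rw [← h2]
    have h3 := G_isom x⁻¹ (M.G.inv_mem hx) (x M.a₀) ((g : V ≃ₗ[ℚ] V) (x M.a₀))
    refine h3.symm.trans ?_
    have h4 : x⁻¹ (x M.a₀) = M.a₀ := x.symm_apply_apply _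
    rw [h4]
    rfl
  · exfalso
    have h3 := key ⟨x, hx⟩
    have h4 : ((⟨M.t₀, htG⟩ : M.G) * ((⟨x, hx⟩⁻¹ * g * ⟨x, hx⟩) * ⟨M.t₀, htG⟩ * (⟨x, hx⟩⁻¹ * g * ⟨x, hx⟩)⁻¹)) ^ 12
        = 1 := Subtype.ext h2
    have h5 := h3.trans (orderOf_dvd_of_pow_eq_one h4)
    rw [hp5] at h5
    norm_num at h5

end row

end Cfsg.Agent.H722.MFive
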