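import Mathlib
import Cfsg.Agent.ClassicalGeometry.AutPSL.Main

/-!
# Automorphisms of `PSL(2, F)` centralising a Sylow subgroup in the defining characteristic

An automorphism of `PSL(2, F)`, `F` finite of odd characteristic, fixing the images of all upper unitriangular
matrices is conjugation by such an image.
-/

set_option autoImplicit false

namespace Cfsg.Agent.H722.PslUni

open Matrix
open Cfsg.Agent.ClassicalGeometry.AutPSL.Root
open Cfsg.Agent.ClassicalGeometry.AutPSL.Auto
open Cfsg.Agent.ClassicalGeometry.AutPSL.SylowU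

variable {F : Type*} [Field F]

/-- The upper unitriangular matrix. -/
def u (t : F) : SpecialLinearGroup (Fin 2) F := SpecialLinearGroup.transvection (i := 0) (j := 1) (by decide) t

theorem coe_u (t : F) : (u t : Matrix (Fin 2) (Fin 2) F) = !![1, t; 0, 1] := by
  ext i j
  fin_cases i <;> fin_cases j <;> simp [u, SpecialLinearGroup.transvection, Matrix.transvection]

/-- **An automorphism of `PSL(2, F)` fixing the unipotent radical of a Borel subgroup elementwise is inner.** -/
theorem eq_conj_of_fix [Fintype F] (p : ℕ) [Fact p.Prime] [CharP F p] (h2 : (2 : F) ≠ 0)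
    (α : MulAut (ProjectiveSpecialLinearGroup (Fin 2) F))
    (hα : ∀ t : F, α (pr (u t)) = pr (u t)) :
    ∃ b : F, α = MulAut.conj (pr (u b)) := by
  obtain ⟨A, σ, rfl⟩ := ClassicalGeometry.AutPSL.Main.surj_two p α
  have key : ∀ t : F, (u t : Matrix (Fin 2) (Fin 2) F) * (A : Matrix (Fin 2) (Fin 2) F) =
      (A : Matrix (Fin 2) (Fin 2) F) * (u (σ t) : Matrix (Fin 2) (Fin 2) F) := by
    intro t
    have h1 : pr (cj A (u (σ t))) = pr (u t) := by
      have := hα t
      rw [lift_pr] at this
      rw [← this]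
      congr 1
      change _ = cj A (fld σ (u t))
      rw [u, u, fld_transvection]
    obtain ⟨c, hc⟩ := exists_smul_of_pr_eq h1
    have hc1 : c = 1 := by
      have h3 := congrArg Matrix.trace hc
      rw [Matrix.trace_smul, coe_cj, Matrix.trace_mul_comm, ← mul_assoc, ← Units.val_mul, inv_mul_cancel,
        Units.val_one, one_mul, coe_u, coe_u, Matrix.trace_fin_two, Matrix.trace_fin_two] at h3
      simp only [Matrix.of_apply, Matrix.cons_val', Matrix.cons_val_zero, Matrix.cons_val_one,
        Matrix.cons_val_fin_one, smul_eq_mul] at h3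
      have h4 : (2 : F) * c = 2 * 1 := by linear_combination -h3
      exact mul_left_cancel₀ h2 h4
    rw [hc1, one_smul, coe_cj] at hc
    rw [hc, mul_assoc, ← Units.val_mul, inv_mul_cancel, Units.val_one, mul_one]
  have hA10 : (A : Matrix (Fin 2) (Fin 2) F) 1 0 = 0 := by
    have h := congrFun (congrFun (key 1) 0) 0
    rw [coe_u, coe_u, Matrix.mul_apply, Matrix.mul_apply, Fin.sum_univ_two, Fin.sum_univ_two] at h
    simp at h
    exact h
  have hkey2 : ∀ t : F, t * (A : Matrix (Fin 2) (Fin 2) F) 1 1 = (A : Matrix (Fin 2) (Fin 2) F) 0 0 * σ t := by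
    intro t
    have h := congrFun (congrFun (key t) 0) 1
    rw [coe_u, coe_u, Matrix.mul_apply, Matrix.mul_apply, Fin.sum_univ_two, Fin.sum_univ_two] at h
    simp at h
    linear_combination h
  have hd : (A : Matrix (Fin 2) (Fin 2) F) 1 1 = (A : Matrix (Fin 2) (Fin 2) F) 0 0 := by
    have := hkey2 1
    rwa [one_mul, map_one, mul_one] at this
  have hdet : (A : Matrix (Fin 2) (Fin 2) F).det ≠ 0 := by
    intro h
    have := A.isUnit
    rw [Matrix.isUnit_iff_isUnit_det, h] at this
    exact not_isUnit_zero this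
  have ha : (A : Matrix (Fin 2) (Fin 2) F) 0 0 ≠ 0 := by
    intro h
    rw [Matrix.det_fin_two, h, hA10] at hdet
    simp at hdet
  have hσ : σ = 1 := by
    ext t
    have := hkey2 t
    rw [hd, mul_comm] at this
    exact (mul_left_cancel₀ ha this).symm
  subst hσ
  set a := (A : Matrix (Fin 2) (Fin 2) F) 0 0 with hadef
  set b := (A : Matrix (Fin 2) (Fin 2) F) 0 1 with hbdef
  refine ⟨b / a, ?_⟩
  have hAu : (A : Matrix (Fin 2) (Fin 2) F) = a • (u (b / a) : Matrix (Fin 2) (Fin 2) F) := by
    rw [coe_u]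
    ext i j
    fin_cases i <;> fin_cases j
    · simp [hadef]
    · simp only [Fin.zero_eta, Fin.mk_one, Matrix.smul_apply, Matrix.of_apply, Matrix.cons_val',
        Matrix.cons_val_zero, Matrix.cons_val_one, Matrix.cons_val_fin_one, smul_eq_mul]
      rw [mul_div_cancel₀ _ ha]
    · simpa using hA10
    · simpa using hd
  apply MulEquiv.ext
  intro y
  obtain ⟨x, rfl⟩ := pr_surjective y
  rw [map_one, mul_one, lift_pr, MulAut.conj_apply, ← map_inv, ← map_mul, ← map_mul]
  congr 1
  apply Subtype.ext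
  rw [coe_cj]
  have h5 : (A : Matrix (Fin 2) (Fin 2) F) * (x : Matrix (Fin 2) (Fin 2) F) =
      ((u (b / a) * x * (u (b / a))⁻¹ : SpecialLinearGroup (Fin 2) F) : Matrix (Fin 2) (Fin 2) F) *
        (A : Matrix (Fin 2) (Fin 2) F) := by
    rw [hAu, Matrix.mul_smul, Matrix.smul_mul]
    have h6 : ((u (b / a) * x * (u (b / a))⁻¹ : SpecialLinearGroup (Fin 2) F) : Matrix (Fin 2) (Fin 2) F) *
        (u (b / a) : Matrix (Fin 2) (Fin 2) F) =
        ((u (b / a) * x * (u (b / a))⁻¹ * u (b / a) : SpecialLinearGroup (Fin 2) F) :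
          Matrix (Fin 2) (Fin 2) F) := rfl
    have h7 : (u (b / a) : Matrix (Fin 2) (Fin 2) F) * (x : Matrix (Fin 2) (Fin 2) F) =
        ((u (b / a) * x : SpecialLinearGroup (Fin 2) F) : Matrix (Fin 2) (Fin 2) F) := rfl
    rw [h6, h7, inv_mul_cancel_right]
  rw [h5, mul_assoc, ← Units.val_mul, mul_inv_cancel, Units.val_one, mul_one]

/-- The Sylow subgroup of `PSL(2, F)` in the defining characteristic. -/
theorem exists_sylow_two [Fintype F] (p : ℕ) [Fact p.Prime] [CharP F p] :
    ∃ S : Sylow p (ProjectiveSpecialLinearGroup (Fin 2) F), ∀ t : F, pr (u t) ∈ (S : Subgroup _) := by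
  obtain ⟨S, hS⟩ := exists_sylow (F := F) 2 p
  refine ⟨S, fun t => ?_⟩
  rw [hS]
  exact Subgroup.mem_map_of_mem _ (transvection_mem_upper (by decide) t)

end Cfsg.Agent.H722.PslUni
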