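import Mathlib
import Cfsg.Agent.H722.RealP
import Cfsg.Agent.H722.PslUni

/-!
# 2-elements and subgroups `PSL(2, q)` in groups without real elements of order `p`

Let `G` be a finite group without real elements of odd prime order `p` and `L ≤ G` a subgroup isomorphic to
`PSL(2, F)`, `F` finite of characteristic `p`. A 2-element normalising `L` acts on `L` as an inner automorphism; and if
every conjugate of `L` different from `L` commutes with `L` and meets it trivially, then 2-elements normalise `L`.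
-/

set_option autoImplicit false

namespace Cfsg.Agent.H722.CompAct

open Subgroup
open Cfsg.Agent.H722.RealP
open Cfsg.Agent.ClassicalGeometry.AutPSL.Root (pr)

variable {G : Type*} [Group G]

/-- Powers of an element normalising a subgroup normalise it. -/
theorem pow_norm {g : G} {H : Set G} (h : ∀ r ∈ H, g * r * g⁻¹ ∈ H) (n : ℕ) :
    ∀ r ∈ H, g ^ n * r * (g ^ n)⁻¹ ∈ H := by
  induction n with
  | zero => intro r hr; simpa using hr
  | succ n ih =>
    intro r hr
    have : g ^ (n + 1) * r * (g ^ (n + 1))⁻¹ = g * (g ^ n * r * (g ^ n)⁻¹) * g⁻¹ := by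
      rw [pow_succ']; group
    rw [this]
    exact h _ (ih r hr)

theorem exists_mul_mem_centralizer [Finite G] {F : Type*} [Field F] [Fintype F] (p : ℕ) [Fact p.Prime]
    [CharP F p] (h2 : (2 : F) ≠ 0) (hreal : ¬ HasReal p G) {L : Subgroup G}
    (e : L ≃* Matrix.ProjectiveSpecialLinearGroup (Fin 2) F) {g : G} (hg2 : ∃ k : ℕ, orderOf g = 2 ^ k)
    (hgL : g ∈ normalizer (L : Set G)) : ∃ l ∈ L, g * l ∈ centralizer (L : Set G) := by
  classical
  obtain ⟨S, hS⟩ := PslUni.exists_sylow_two (F := F) p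
  -- the Sylow subgroup of `L`
  obtain ⟨P, hP⟩ : ∃ P : Sylow p L, ∀ t : F, e.symm (pr (PslUni.u t)) ∈ (P : Subgroup L) := by
    refine ⟨S.mapSurjective (f := e.symm.toMonoidHom) e.symm.surjective, fun t => ?_⟩
    exact mem_map_of_mem _ (hS t)
  let R : Subgroup G := (P : Subgroup L).map L.subtype
  have hRp : IsPGroup p R := P.isPGroup'.map _
  obtain ⟨k, hkL, hk⟩ : ∃ k ∈ L, ∀ r ∈ R, (k * g) * r * (k * g)⁻¹ ∈ R := by
    let φ : L ≃* L := (normalizerMonoidHom L ⟨g, hgL⟩)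
    have hφ : ∀ y : L, ((φ y : L) : G) = g * (y : G) * g⁻¹ := fun y => rfl
    obtain ⟨k, hk⟩ := MulAction.exists_smul_eq L (P.mapSurjective φ.surjective) P
    refine ⟨k, k.2, ?_⟩
    rintro _ ⟨r, hr, rfl⟩
    have h1 : φ r ∈ (P.mapSurjective φ.surjective : Subgroup L) := mem_map_of_mem _ hr
    have h2 : k * φ r * k⁻¹ ∈ (P : Subgroup L) := by
      rw [← hk]
      exact mem_map_of_mem (MulDistribMulAction.toMonoidEnd _ _ (MulAut.conj k)) h1
    refine ⟨_, h2, ?_⟩
    simp only [coe_subtype, coe_mul, coe_inv, hφ]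
    group
  obtain ⟨j, m, hm, hjm⟩ := Nat.exists_eq_two_pow_mul_odd (orderOf_pos (k * g)).ne'
  have hs : orderOf ((k * g) ^ m) = 2 ^ j := by
    rw [orderOf_pow_of_dvd (by rintro rfl; simp at hm) (by rw [hjm]; exact Dvd.intro_left _ rfl), hjm]
    exact Nat.mul_div_cancel _ hm.pos
  have hkg : k * g ∈ normalizer (L : Set G) := mul_mem (le_normalizer hkL) hgL
  set s := (k * g) ^ m with hsdef
  have hsN : s ∈ normalizer (L : Set G) := pow_mem hkg m
  have hsR : ∀ r ∈ R, s * r * s⁻¹ = r := by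
    by_contra hc
    push Not at hc
    exact hreal (hasReal_of_act hRp ⟨j, hs⟩ (pow_norm (H := (R : Set G)) hk m) hc)
  -- the automorphism induced by `s`
  let ψ : normalizer (L : Set G) →* MulAut L := normalizerMonoidHom L
  have hψ : ∀ (n : normalizer (L : Set G)) (y : L), ((ψ n y : L) : G) = n * (y : G) * (n : G)⁻¹ :=
    fun n y => rfl
  let α : MulAut (Matrix.ProjectiveSpecialLinearGroup (Fin 2) F) := MulAut.congr e (ψ ⟨s, hsN⟩)
  have hαe : ∀ y : L, α (e y) = e (ψ ⟨s, hsN⟩ y) := by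
    intro y
    change e (ψ ⟨s, hsN⟩ (e.symm (e y))) = _
    rw [e.symm_apply_apply]
  have hαu : ∀ t : F, α (pr (PslUni.u t)) = pr (PslUni.u t) := by
    intro t
    have h1 := hαe (e.symm (pr (PslUni.u t)))
    rw [e.apply_symm_apply] at h1
    rw [h1]
    have h3 : ψ ⟨s, hsN⟩ (e.symm (pr (PslUni.u t))) = e.symm (pr (PslUni.u t)) := by
      apply Subtype.ext
      rw [hψ]
      exact hsR _ (mem_map_of_mem _ (hP t))
    rw [h3, e.apply_symm_apply]
  obtain ⟨b, hb⟩ := PslUni.eq_conj_of_fix p h2 α hαu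
  -- so `ψ s` is inner
  have hψs : ψ ⟨s, hsN⟩ ∈ (MulAut.conj : L →* MulAut L).range := by
    refine ⟨e.symm (pr (PslUni.u b)), ?_⟩
    apply MulEquiv.ext
    intro y
    apply e.injective
    rw [← hαe, hb, MulAut.conj_apply, MulAut.conj_apply, map_mul, map_mul, map_inv, e.apply_symm_apply]
  -- work modulo the inner automorphisms
  have hI : (MulAut.conj : L →* MulAut L).range.Normal := by
    constructor
    rintro _ ⟨x, rfl⟩ β
    refine ⟨β x, ?_⟩
    apply MulEquiv.ext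
    intro y
    rw [MulAut.mul_apply, MulAut.mul_apply, MulAut.conj_apply, MulAut.conj_apply, map_mul, map_mul, map_inv,
      MulAut.apply_inv_self]
  let q : MulAut L →* MulAut L ⧸ (MulAut.conj : L →* MulAut L).range := QuotientGroup.mk' _
  have hqs : q (ψ ⟨s, hsN⟩) = 1 := (QuotientGroup.eq_one_iff _).2 hψs
  have hqk : q (ψ ⟨k, le_normalizer hkL⟩) = 1 := by
    refine (QuotientGroup.eq_one_iff _).2 ⟨⟨k, hkL⟩, ?_⟩
    apply MulEquiv.ext
    intro y
    rfl
  have hqm : (q (ψ ⟨g, hgL⟩)) ^ m = 1 := by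
    have h4 : (⟨s, hsN⟩ : normalizer (L : Set G)) = (⟨k, le_normalizer hkL⟩ * ⟨g, hgL⟩) ^ m := by
      apply Subtype.ext
      rfl
    rw [h4, map_pow, map_pow, map_mul, map_mul, hqk, one_mul] at hqs
    exact hqs
  have hq1 : q (ψ ⟨g, hgL⟩) = 1 := by
    obtain ⟨i, hi⟩ := hg2
    rw [← orderOf_eq_one_iff]
    have h5 : orderOf (q (ψ ⟨g, hgL⟩)) ∣ m := orderOf_dvd_of_pow_eq_one hqm
    have h6 : orderOf (q (ψ ⟨g, hgL⟩)) ∣ 2 ^ i := by
      apply orderOf_dvd_of_pow_eq_one
      rw [← map_pow, ← map_pow]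
      have : (⟨g, hgL⟩ : normalizer (L : Set G)) ^ 2 ^ i = 1 := by
        apply Subtype.ext
        change g ^ 2 ^ i = 1
        rw [← hi, pow_orderOf_eq_one]
      rw [this, map_one, map_one]
    exact Nat.eq_one_of_dvd_coprimes (Nat.Coprime.pow_left i (Nat.coprime_two_left.2 hm)) h6 h5
  obtain ⟨x, hx⟩ := (QuotientGroup.eq_one_iff _).1 hq1
  refine ⟨((x⁻¹ : L) : G), (x⁻¹).2, ?_⟩
  rw [mem_centralizer_iff]
  intro y hy
  have h7 := congrArg (fun β : MulAut L => ((β (x⁻¹ * ⟨y, hy⟩ * x) : L) : G)) hx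
  simp only [hψ, MulAut.conj_apply, coe_mul, coe_inv] at h7
  have h8 : g * ((x : G)⁻¹ * y * x) * g⁻¹ = y := by
    rw [← h7]; group
  calc y * (g * ((x⁻¹ : L) : G)) = g * ((x : G)⁻¹ * y * x) * g⁻¹ * (g * ((x⁻¹ : L) : G)) := by rw [h8]
    _ = g * ((x⁻¹ : L) : G) * y := by rw [coe_inv]; group

/-- `p` divides the order of `PSL(2, F)`. -/
theorem dvd_card_psl {F : Type*} [Field F] [Fintype F] (p : ℕ) [Fact p.Prime] [CharP F p] :
    p ∣ Nat.card (Matrix.ProjectiveSpecialLinearGroup (Fin 2) F) := by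
  have h1 : pr (PslUni.u (1 : F)) ≠ 1 := by
    intro h3
    rw [← map_one pr] at h3
    obtain ⟨c, hc⟩ := ClassicalGeometry.AutPSL.Root.exists_smul_of_pr_eq h3
    have h4 := congrFun (congrFun hc 0) 0
    have h5 := congrFun (congrFun hc 0) 1
    rw [PslUni.coe_u] at h4 h5
    simp at h4 h5
    rw [← h4] at h5
    exact one_ne_zero h5.symm
  obtain ⟨S, hS⟩ := PslUni.exists_sylow_two (F := F) p
  have hne : (S : Subgroup (Matrix.ProjectiveSpecialLinearGroup (Fin 2) F)) ≠ ⊥ := by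
    intro h
    have := hS 1
    rw [h, mem_bot] at this
    exact h1 this
  have h6 : 1 < Nat.card (S : Subgroup (Matrix.ProjectiveSpecialLinearGroup (Fin 2) F)) :=
    (Subgroup.one_lt_card_iff_ne_bot _).2 hne
  obtain ⟨n, hn⟩ := IsPGroup.iff_card.1 S.isPGroup'
  have h7 : Nat.card (S : Subgroup (Matrix.ProjectiveSpecialLinearGroup (Fin 2) F)) ∣
      Nat.card (Matrix.ProjectiveSpecialLinearGroup (Fin 2) F) := Subgroup.card_subgroup_dvd_card _
  rw [hn] at h6 h7
  rcases n with _ | n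
  · simp at h6
  · exact (dvd_pow_self p (Nat.succ_ne_zero n)).trans h7

/-- If distinct conjugates of `L` commute and meet trivially, 2-elements normalise `L`. -/
theorem mem_normalizer [Finite G] {F : Type*} [Field F] [Fintype F] (p : ℕ) [Fact p.Prime]
    [CharP F p] (h2 : (2 : F) ≠ 0) (hreal : ¬ HasReal p G) {L : Subgroup G}
    (e : L ≃* Matrix.ProjectiveSpecialLinearGroup (Fin 2) F)
    (hL : ∀ g : G, g ∉ normalizer (L : Set G) → ∀ x ∈ L, ∀ y ∈ L,
      x * (g * y * g⁻¹) = (g * y * g⁻¹) * x ∧ (x = g * y * g⁻¹ → x = 1))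
    {t : G} (ht : ∃ k : ℕ, orderOf t = 2 ^ k) : t ∈ normalizer (L : Set G) := by
  classical
  by_contra htn
  obtain ⟨m, hm⟩ := ht
  have hex : ∃ k : ℕ, t ^ 2 ^ k ∈ normalizer (L : Set G) :=
    ⟨m, by rw [← hm, pow_orderOf_eq_one]; exact one_mem _⟩
  set k := Nat.find hex with hk
  have hk1 := Nat.find_spec hex
  have hk0 : k ≠ 0 := by
    intro h0
    rw [← hk, h0, pow_zero, pow_one] at hk1
    exact htn hk1
  obtain ⟨j, hj⟩ := Nat.exists_eq_succ_of_ne_zero hk0
  have hj1 : t ^ 2 ^ j ∉ normalizer (L : Set G) :=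
    Nat.find_min hex (by rw [← hk, hj]; exact Nat.lt_succ_self _)
  set s := t ^ 2 ^ j with hs
  have hss : s * s = t ^ 2 ^ k := by rw [hs, hj, pow_succ, pow_mul, pow_two]
  have hssN : s * s ∈ normalizer (L : Set G) := by rw [hss]; exact hk1
  have hss2 : ∃ i : ℕ, orderOf (s * s) = 2 ^ i := by
    have : orderOf (s * s) ∣ 2 ^ m := by rw [hss, ← hm]; exact orderOf_pow_dvd _
    obtain ⟨i, -, hi⟩ := (Nat.dvd_prime_pow Nat.prime_two).1 this
    exact ⟨i, hi⟩
  obtain ⟨l, hl, hlc⟩ := exists_mul_mem_centralizer p h2 hreal e hss2 hssN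
  rw [mem_centralizer_iff] at hlc
  have hsi : s⁻¹ ∉ normalizer (L : Set G) := fun h => hj1 (by simpa using inv_mem h)
  set v := s * l with hv
  have hvn : v ∉ normalizer (L : Set G) := by
    intro h
    have := mul_mem h (inv_mem (le_normalizer (H := L) hl))
    rw [hv, mul_inv_cancel_right] at this
    exact hj1 this
  -- `v²` centralises `L`
  have hvv : ∀ x ∈ L, v * v * x * (v * v)⁻¹ = x := by
    intro x hx
    have h1 : v * v = (s * s * l) * (s⁻¹ * l * s) := by
      have h3 := (hL s⁻¹ hsi l hl l hl).1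
      rw [inv_inv] at h3
      calc v * v = s * s * ((s⁻¹ * l * s) * l) := by rw [hv]; group
        _ = s * s * (l * (s⁻¹ * l * s)) := by rw [h3]
        _ = (s * s * l) * (s⁻¹ * l * s) := by group
    have h4 : (s⁻¹ * l * s) * x = x * (s⁻¹ * l * s) := by
      have := (hL s⁻¹ hsi x hx l hl).1
      rw [inv_inv] at this
      exact this.symm
    rw [h1, mul_inv_eq_iff_eq_mul]
    calc s * s * l * (s⁻¹ * l * s) * x = s * s * l * (x * (s⁻¹ * l * s)) := by rw [mul_assoc, h4]
      _ = (s * s * l * x) * (s⁻¹ * l * s) := by group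
      _ = x * (s * s * l * (s⁻¹ * l * s)) := by rw [← hlc x hx]; group
  -- an element of order `p` of `L`
  have hpL : p ∣ Nat.card L := by
    rw [Nat.card_congr e.toEquiv]
    exact dvd_card_psl (F := F) p
  obtain ⟨x, hx⟩ := exists_prime_orderOf_dvd_card' p hpL
  have hxL : (x : G) ∈ L := x.2
  have hxp : (x : G) ^ p = 1 := by
    rw [← Subgroup.coe_pow, ← hx, pow_orderOf_eq_one, Subgroup.coe_one]
  have hx1 : (x : G) ≠ 1 := by
    intro h
    have : x = 1 := Subtype.ext h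
    rw [this, orderOf_one] at hx
    exact (Fact.out : p.Prime).one_lt.ne hx
  set y := (x : G) * (v * (x : G)⁻¹ * v⁻¹) with hy
  have hy1 : y ≠ 1 := by
    intro h
    have h3 : (x : G) = v * x * v⁻¹ := by
      rw [hy, mul_eq_one_iff_eq_inv] at h
      refine h.trans ?_
      group
    exact hx1 ((hL v hvn _ hxL _ hxL).2 h3)
  have hcomm : Commute (x : G) (v * (x : G)⁻¹ * v⁻¹) := (hL v hvn _ hxL _ (inv_mem hxL)).1
  have hyp : y ^ p = 1 := by
    rw [hy, hcomm.mul_pow, conj_pow, inv_pow, hxp]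
    simp
  have hyo : orderOf y = p := orderOf_eq_prime hyp hy1
  apply hreal
  refine hasReal_of_isConj hyo (isConj_iff.2 ⟨v, ?_⟩)
  have h9 := hvv _ (inv_mem hxL)
  calc v * y * v⁻¹ = (v * x * v⁻¹) * (v * v * (x : G)⁻¹ * (v * v)⁻¹) := by rw [hy]; group
    _ = y⁻¹ := by rw [h9, hy]; group

end Cfsg.Agent.H722.CompAct
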