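import Mathlib
import Cfsg.Prelude.Def_Local
import Cfsg.Agent.Lib.Cores
import Cfsg.Agent.Lib.PSL2Mult
import Cfsg.Agent.SignalizersComponents.Components
import Cfsg.Agent.SignalizersComponents.ComponentExists
import Cfsg.Agent.SignalizersComponents.CompOrbit
import Cfsg.Agent.SignalizersComponents.CompBasic
import Cfsg.Agent.SignalizersComponents.FStarNormal
import Cfsg.Agent.H722.RealP
import Cfsg.Agent.H722.CompAct

/-!
# Groups generated by 2-elements, without real elements of order three

If the simple groups of order divisible by 3 without real elements of order 3 are the `PSL(2, 3^(2f+1))`, `f ≥ 1`, then a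
finite group generated by its 2-elements, with `O_{3'} = 1` and without real elements of order 3, is a direct product of
such groups.
-/

set_option autoImplicit false

namespace Cfsg.Agent.H722.Struct

open Subgroup
open Cfsg.Agent.H722.RealP

/-- A perfect group whose central quotient has order prime to `p` has order prime to `p`. -/
theorem not_dvd_of_quotient {L : Type*} [Group L] [Finite L] {p : ℕ} [Fact p.Prime]
    (hperf : commutator L = ⊤) (h : ¬ p ∣ Nat.card (L ⧸ center L)) : ¬ p ∣ Nat.card L := by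
  obtain ⟨P⟩ : Nonempty (Sylow p L) := inferInstance
  have hPc : (P : Subgroup L) ≤ center L := by
    intro x hx
    rw [← QuotientGroup.eq_one_iff]
    obtain ⟨k, hk⟩ := (IsPGroup.iff_orderOf.1 P.isPGroup') ⟨x, hx⟩
    rw [Subgroup.orderOf_mk] at hk
    rw [← orderOf_eq_one_iff]
    have h1 : orderOf (QuotientGroup.mk x : L ⧸ center L) ∣ p ^ k := by
      rw [← hk]
      exact orderOf_map_dvd (QuotientGroup.mk' (center L)) x
    have h2 : orderOf (QuotientGroup.mk x : L ⧸ center L) ∣ Nat.card (L ⧸ center L) := orderOf_dvd_natCard _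
    exact Nat.eq_one_of_dvd_coprimes
      (Nat.Coprime.pow_left k (((Fact.out : p.Prime).coprime_iff_not_dvd).2 h)) h1 h2
  have hP : normalizer ((P : Subgroup L) : Set L) ≤ centralizer ((P : Subgroup L) : Set L) := by
    intro g _
    rw [mem_centralizer_iff]
    intro x hx
    exact ((mem_center_iff.1 (hPc hx)) g).symm
  have h3 := MonoidHom.not_dvd_card_ker_transferSylow P hP
  have htop : (MonoidHom.transferSylow P hP).ker = ⊤ := by
    rw [eq_top_iff, ← hperf, commutator_def, Subgroup.commutator_le]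
    intro a _ b _
    rw [MonoidHom.mem_ker, map_commutatorElement, commutatorElement_eq_one_iff_mul_comm]
    apply Subtype.ext
    exact ((mem_center_iff.1 (hPc (MonoidHom.transferSylow P hP a).2)) _).symm
  rwa [htop, Nat.card_congr (topEquiv (G := L)).toEquiv] at h3

open scoped IsMulCommutative in
theorem isNilpotent_center (L : Type*) [Group L] : Group.IsNilpotent (center L) :=
  CommGroup.isNilpotent

/-- The group is generated by its 2-elements. -/
def TwoGen (G : Type*) [Group G] : Prop := closure {g : G | ∃ k : ℕ, orderOf g = 2 ^ k} = ⊤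

theorem TwoGen.of_surjective {G Y : Type*} [Group G] [Group Y] (h : TwoGen G) (f : G →* Y)
    (hf : Function.Surjective f) : TwoGen Y := by
  unfold TwoGen at *
  rw [eq_top_iff, ← map_top_of_surjective f hf, ← h, MonoidHom.map_closure]
  apply Subgroup.closure_mono
  rintro _ ⟨g, ⟨k, hk⟩, rfl⟩
  have : orderOf (f g) ∣ 2 ^ k := by rw [← hk]; exact orderOf_map_dvd f g
  obtain ⟨i, -, hi⟩ := (Nat.dvd_prime_pow Nat.prime_two).1 this
  exact ⟨i, hi⟩

/-- Normal `p`-subgroups are central. -/
theorem le_center {G : Type*} [Group G] {p : ℕ} [Fact p.Prime] (h2 : TwoGen G)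
    (hreal : ¬ HasReal p G) {R : Subgroup G} (hR : R.Normal) (hRp : IsPGroup p R) : R ≤ center G := by
  intro r hr
  rw [mem_center_iff]
  intro g
  have h3 : (⊤ : Subgroup G) ≤ centralizer {r} := by
    rw [← (show closure {g : G | ∃ k : ℕ, orderOf g = 2 ^ k} = ⊤ from h2), closure_le]
    intro t ht
    rw [SetLike.mem_coe, mem_centralizer_singleton_iff]
    by_contra hne
    apply hreal
    refine hasReal_of_act hRp ht (fun x hx => hR.conj_mem x hx t) ⟨r, hr, fun h => hne ?_⟩
    rw [mul_inv_eq_iff_eq_mul] at h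
    exact h
  have h4 := h3 (mem_top g)
  rw [mem_centralizer_singleton_iff] at h4
  exact h4

theorem subsingleton_of_pGroup {G : Type*} [Group G] {p : ℕ} [Fact p.Prime] (hp2 : p ≠ 2)
    (h2 : TwoGen G) (hG : IsPGroup p G) : Subsingleton G := by
  have h3 : (⊤ : Subgroup G) ≤ ⊥ := by
    rw [← (show closure {g : G | ∃ k : ℕ, orderOf g = 2 ^ k} = ⊤ from h2), closure_le]
    rintro t ⟨k, hk⟩
    rw [SetLike.mem_coe, mem_bot, ← orderOf_eq_one_iff]
    obtain ⟨j, hj⟩ := (IsPGroup.iff_orderOf.1 hG) t
    have hc : (2 ^ k).Coprime (p ^ j) :=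
      Nat.Coprime.pow _ _ ((Nat.coprime_primes Nat.prime_two Fact.out).2 hp2.symm)
    exact Nat.eq_one_of_dvd_coprimes hc (by rw [hk]) (by rw [hj])
  have h4 : (⊤ : Subgroup G) = ⊥ := le_bot_iff.1 h3
  exact Subgroup.subsingleton_iff.1 (subsingleton_of_bot_eq_top h4.symm)

/-- The shape of the simple groups: `PSL(2, 3^(2f+1))`, `f ≥ 1`. -/
def IsL (X : Type*) [Group X] : Prop :=
  ∃ f : ℕ, 1 ≤ f ∧ Nonempty (X ≃* Matrix.ProjectiveSpecialLinearGroup (Fin 2) (GaloisField 3 (2 * f + 1)))

universe u

/-- The result on simple groups. -/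
def SimpleThm : Prop :=
  ∀ (X : Type u) [Group X] [Finite X], IsSimpleGroup X → ¬ IsMulCommutative X → 3 ∣ Nat.card X →
    ¬ HasReal 3 X → IsL X

theorem exists_component {G : Type u} [Group G] [Finite G] (hs : SimpleThm.{u}) (h2 : TwoGen G)
    (hO : Cfsg.pPrimeCore 3 G = ⊥) (hreal : ¬ HasReal 3 G) (hne : Nontrivial G) :
    ∃ L : Subgroup G, Cfsg.IsComponent L ∧ center L = ⊥ ∧ IsL L := by
  have hF0 : Cfsg.fittingSubgroup G ≤ Cfsg.pCore 3 G :=
    SignalizersComponents.CompOrbit.fittingSubgroup_le_pCore hO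
  have hF : Cfsg.fittingSubgroup G ≤ center G :=
    hF0.trans (le_center h2 hreal (Lib.Cores.pCore_normal 3) (Lib.Cores.pCore_isPGroup 3))
  have hFp : IsPGroup 3 (Cfsg.fittingSubgroup G) := (Lib.Cores.pCore_isPGroup 3).to_le hF0
  have hcF : (⊤ : Subgroup G) ≤ centralizer (Cfsg.fittingSubgroup G : Set G) := by
    intro g _
    rw [mem_centralizer_iff]
    intro x hx
    exact ((mem_center_iff.1 (hF hx)) g).symm
  have hns : ¬ Group.IsSolvable (⊤ : Subgroup G) := by
    intro h
    have h1 := SignalizersComponents.ComponentExists.le_fitting_of_normal_of_isSolvable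
      (N := (⊤ : Subgroup G)) inferInstance h hcF
    have h3 : Cfsg.fittingSubgroup G = ⊤ := top_le_iff.1 h1
    rw [h3] at hFp
    have h4 : IsPGroup 3 G := hFp.of_equiv topEquiv
    have := subsingleton_of_pGroup (p := 3) (by norm_num) h2 h4
    exact not_subsingleton G this
  obtain ⟨L, hL, -⟩ := SignalizersComponents.ComponentExists.exists_isComponent_le
    (C := (⊤ : Subgroup G)) Subgroup.IsSubnormal.top hns hcF
  have hsub : L.IsSubnormal := hL.1
  have hperf : commutator L = ⊤ := Group.isPerfect_def.1 hL.2.1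
  -- the centre of `L` is a 3-group
  have hZ3 : IsPGroup 3 (center L) := by
    have h1 : center L ≤ Cfsg.fittingSubgroup L := by
      apply Lib.Cores.le_fittingSubgroup inferInstance
      exact isNilpotent_center L
    have h3 := (map_mono h1).trans (SignalizersComponents.FStarNormal.fitting_map_le_of_subnormal hsub)
    have h4 : IsPGroup 3 ((center L).map L.subtype) := hFp.to_le h3
    exact h4.of_equiv ((center L).equivMapOfInjective L.subtype L.subtype_injective).symm
  -- 3 divides the order of `L / Z(L)`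
  have h3 : 3 ∣ Nat.card (L ⧸ center L) := by
    by_contra h
    have h4 : ¬ 3 ∣ Nat.card L := not_dvd_of_quotient hperf h
    have h5 : L ≤ Cfsg.pPrimeCore 3 G := SignalizersComponents.CompBasic.subnormal_coprime_le_pPrimeCore hsub
      (((Nat.Prime.coprime_iff_not_dvd Nat.prime_three).2 h4).symm)
    rw [hO, le_bot_iff] at h5
    exact SignalizersComponents.Components.component_ne_bot hL h5
  have hrealQ : ¬ HasReal 3 (L ⧸ center L) := fun h => hreal ((h.of_quotient (by norm_num)).of_subgroup)
  have hnaQ : ¬ IsMulCommutative (L ⧸ center L) := by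
    intro h
    have : Group.IsPerfect (L ⧸ center L) := by
      have := hL.2.1
      infer_instance
    have h6 : Subsingleton (L ⧸ center L) := Group.IsPerfect.subsingleton_of_isMulCommutative
    have := hL.2.2
    exact not_subsingleton (L ⧸ center L) h6
  obtain ⟨f, hf, ⟨e⟩⟩ := hs (L ⧸ center L) hL.2.2 hnaQ h3 hrealQ
  let φ : L →* Matrix.ProjectiveSpecialLinearGroup (Fin 2) (GaloisField 3 (2 * f + 1)) :=
    e.toMonoidHom.comp (QuotientGroup.mk' (center L))
  have hφ : Function.Surjective φ := e.surjective.comp (QuotientGroup.mk'_surjective _)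
  have hker : φ.ker = center L := by
    ext x
    rw [MonoidHom.mem_ker]
    change e (QuotientGroup.mk' (center L) x) = 1 ↔ _
    rw [map_eq_one_iff e e.injective]
    exact QuotientGroup.eq_one_iff x
  have : Fintype (GaloisField 3 (2 * f + 1)) := Fintype.ofFinite _
  have hcard : Fintype.card (GaloisField 3 (2 * f + 1)) = 3 ^ (2 * f + 1) := by
    rw [← Nat.card_eq_fintype_card, GaloisField.card 3 _ (by omega)]
  have hodd : Odd (Fintype.card (GaloisField 3 (2 * f + 1))) := by
    rw [hcard]; exact Odd.pow (by decide)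
  have h27 : 27 ≤ Fintype.card (GaloisField 3 (2 * f + 1)) := by
    rw [hcard]
    calc 27 = 3 ^ 3 := by norm_num
      _ ≤ 3 ^ (2 * f + 1) := Nat.pow_le_pow_right (by norm_num) (by omega)
  have hbot : φ.ker = ⊥ := by
    apply Lib.PSL2Mult.ker_eq_bot hodd (by omega) (by omega) hφ (by rw [hker]) hperf
    rw [hker]
    obtain ⟨n, hn⟩ := IsPGroup.iff_card.1 hZ3
    rw [hn]; exact Odd.pow (by decide)
  refine ⟨L, hL, by rw [← hker, hbot], f, hf, ⟨MulEquiv.ofBijective φ ⟨?_, hφ⟩⟩⟩
  exact (MonoidHom.ker_eq_bot_iff φ).1 hbot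

theorem charP_galoisField (f : ℕ) : (2 : GaloisField 3 (2 * f + 1)) ≠ 0 := by
  intro h
  have h1 : ((2 : ℕ) : GaloisField 3 (2 * f + 1)) = 0 := by exact_mod_cast h
  rw [CharP.cast_eq_zero_iff (GaloisField 3 (2 * f + 1)) 3] at h1
  omega

/-- A component is a direct factor. -/
theorem exists_factor {G : Type u} [Group G] [Finite G] (hs : SimpleThm.{u}) (h2 : TwoGen G)
    (hO : Cfsg.pPrimeCore 3 G = ⊥) (hreal : ¬ HasReal 3 G) (hne : Nontrivial G) :
    ∃ L C : Subgroup G, L ≠ ⊥ ∧ C.Normal ∧ IsL L ∧ Nonempty (L × C ≃* G) := by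
  obtain ⟨L, hL, hZ, hIsL⟩ := exists_component hs h2 hO hreal hne
  obtain ⟨f, hf, ⟨e⟩⟩ := id hIsL
  have hft : Fintype (GaloisField 3 (2 * f + 1)) := Fintype.ofFinite _
  have hconj : ∀ g : G, g ∉ normalizer (L : Set G) → ∀ x ∈ L, ∀ y ∈ L,
      x * (g * y * g⁻¹) = (g * y * g⁻¹) * x ∧ (x = g * y * g⁻¹ → x = 1) := by
    intro g hg x hx y hy
    have hne : L.map (MulAut.conj g).toMonoidHom ≠ L := by
      intro h
      apply hg
      rw [mem_normalizer_iff]
      intro z
      constructor
      · intro hz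
        rw [← h]
        exact ⟨z, hz, rfl⟩
      · intro hz
        rw [← h] at hz
        obtain ⟨w, hw, hwz⟩ := hz
        have : w = z := by
          have h3 : g * w * g⁻¹ = g * z * g⁻¹ := hwz
          exact mul_left_cancel (mul_right_cancel h3)
        rw [← this]
        exact hw
    have h3 := SignalizersComponents.Components.component_le_centralizer_of_ne
      (SignalizersComponents.Components.isComponent_conj g hL) hL hne
    have h4 : g * y * g⁻¹ ∈ centralizer (L : Set G) := h3 ⟨y, hy, rfl⟩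
    rw [mem_centralizer_iff] at h4
    refine ⟨h4 x hx, fun h => ?_⟩
    rw [← h] at h4
    have h5 : (⟨x, hx⟩ : L) ∈ center L := by
      rw [mem_center_iff]
      intro z
      exact Subtype.ext (h4 z z.2)
    rw [hZ, mem_bot] at h5
    exact congrArg Subtype.val h5
  have hnorm : L.Normal := by
    rw [← normalizer_eq_top_iff, eq_top_iff, ← (show closure {g : G | ∃ k : ℕ, orderOf g = 2 ^ k} = ⊤ from h2),
      closure_le]
    intro t ht
    exact CompAct.mem_normalizer 3 (charP_galoisField f) hreal e hconj ht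
  have hfac : ∀ g : G, ∃ l ∈ L, g * l ∈ centralizer (L : Set G) := by
    intro g
    have hg : g ∈ closure {g : G | ∃ k : ℕ, orderOf g = 2 ^ k} := by
      rw [show closure {g : G | ∃ k : ℕ, orderOf g = 2 ^ k} = ⊤ from h2]
      exact mem_top g
    have hsup : closure {g : G | ∃ k : ℕ, orderOf g = 2 ^ k} ≤ L ⊔ centralizer (L : Set G) := by
      rw [closure_le]
      intro t ht
      obtain ⟨l, hl, hlc⟩ := CompAct.exists_mul_mem_centralizer 3 (charP_galoisField f) hreal e ht
        (by rw [normalizer_eq_top_iff.2 hnorm]; exact mem_top t)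
      have : t = (t * l) * l⁻¹ := by group
      rw [this]
      exact mul_mem (mem_sup_right hlc) (mem_sup_left (inv_mem hl))
    have hcn : (centralizer (L : Set G)).Normal := inferInstance
    obtain ⟨c, hc, l, hl, hcl⟩ := mem_sup_of_normal_left.1 (by
      rw [sup_comm] at hsup
      exact hsup hg)
    refine ⟨l⁻¹, inv_mem hl, ?_⟩
    rw [← hcl, mul_inv_cancel_right]
    exact hc
  have hdisj : ∀ x ∈ L, x ∈ centralizer (L : Set G) → x = 1 := by
    intro x hx hxc
    rw [mem_centralizer_iff] at hxc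
    have h5 : (⟨x, hx⟩ : L) ∈ center L := by
      rw [mem_center_iff]
      intro z
      exact Subtype.ext (hxc z z.2)
    rw [hZ, mem_bot] at h5
    exact congrArg Subtype.val h5
  refine ⟨L, centralizer (L : Set G), SignalizersComponents.Components.component_ne_bot hL, inferInstance, hIsL, ?_⟩
  have hcomm : ∀ (m : L) (n : centralizer (L : Set G)), Commute (L.subtype m) ((centralizer (L : Set G)).subtype n) := by
    intro m n
    exact (mem_centralizer_iff.1 n.2) m m.2
  let φ : L × centralizer (L : Set G) →* G := MonoidHom.noncommCoprod L.subtype (centralizer (L : Set G)).subtype hcomm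
  have hφ : ∀ x : L × centralizer (L : Set G), φ x = (x.1 : G) * (x.2 : G) := fun x => rfl
  refine ⟨MulEquiv.ofBijective φ ⟨?_, ?_⟩⟩
  · rw [injective_iff_map_eq_one]
    rintro ⟨⟨x, hx⟩, ⟨y, hy⟩⟩ h
    rw [hφ] at h
    simp only at h
    have h1 : x = y⁻¹ := mul_eq_one_iff_eq_inv.1 h
    have h3 : x = 1 := hdisj x hx (by rw [h1]; exact inv_mem hy)
    have h4 : y = 1 := by rw [h3, one_mul] at h; exact h
    subst h3 h4
    rfl
  · intro g
    obtain ⟨l, hl, hc⟩ := hfac g
    refine ⟨(⟨l⁻¹, inv_mem hl⟩, ⟨g * l, hc⟩), ?_⟩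
    rw [hφ]
    simp only
    rw [(mem_centralizer_iff.1 hc) l⁻¹ (inv_mem hl), mul_inv_cancel_right]

/-- The product over `Fin (k + 1)`. -/
def consEquiv {k : ℕ} (A : ℕ → Type) [∀ n, Group (A n)] (a : ℕ) (f : Fin k → ℕ) :
    A a × ((i : Fin k) → A (f i)) ≃* ((i : Fin (k + 1)) → A ((Fin.cons a f : Fin (k + 1) → ℕ) i)) where
  toFun x := Fin.cons (α := fun i => A ((Fin.cons a f : Fin (k + 1) → ℕ) i)) x.1 x.2
  invFun y := (y 0, fun i => y i.succ)
  left_inv x := rfl
  right_inv y := by
    funext i
    refine Fin.cases ?_ (fun j => ?_) i <;> rfl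
  map_mul' x y := by
    funext i
    refine Fin.cases ?_ (fun j => ?_) i <;> rfl

/-- **Structure theorem.** -/
theorem exists_prod (hs : SimpleThm.{u}) (n : ℕ) : ∀ (G : Type u) [Group G] [Finite G], Nat.card G = n →
    TwoGen G → Cfsg.pPrimeCore 3 G = ⊥ → ¬ HasReal 3 G →
    ∃ (k : ℕ) (f : Fin k → ℕ), (∀ i, 1 ≤ f i) ∧ Nonempty (G ≃* ((i : Fin k) →
      Matrix.ProjectiveSpecialLinearGroup (Fin 2) (GaloisField 3 (2 * f i + 1)))) := by
  induction n using Nat.strong_induction_on with
  | _ n ih =>
  intro G _ _ hn h2 hO hreal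
  rcases subsingleton_or_nontrivial G with hsub | hnt
  · refine ⟨0, Fin.elim0, fun i => i.elim0, ⟨?_⟩⟩
    exact { toFun := fun _ => 1, invFun := fun _ => 1, left_inv := fun x => Subsingleton.elim _ _,
            right_inv := fun y => by funext i; exact i.elim0, map_mul' := fun _ _ => by simp }
  · obtain ⟨L, C, hL1, hCn, ⟨a, ha, ⟨e⟩⟩, ⟨m⟩⟩ := exists_factor hs h2 hO hreal hnt
    have hcard : Nat.card C < n := by
      have h1 : Nat.card G = Nat.card L * Nat.card C := by
        rw [← Nat.card_congr m.toEquiv, Nat.card_prod]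
      have h3 : 1 < Nat.card L := (one_lt_card_iff_ne_bot L).2 hL1
      have h4 : 0 < Nat.card C := Nat.card_pos
      rw [← hn, h1]
      nlinarith
    have h2C : TwoGen C := by
      apply h2.of_surjective ((MonoidHom.snd L C).comp m.symm.toMonoidHom)
      exact (Prod.snd_surjective).comp m.symm.surjective
    have hOC : Cfsg.pPrimeCore 3 C = ⊥ := by
      have h1 := Lib.Cores.map_subtype_pPrimeCore (G := G) 3 hCn
      rw [hO, inf_bot_eq] at h1
      exact (Subgroup.map_eq_bot_iff_of_injective _ C.subtype_injective).1 h1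
    have hrC : ¬ HasReal 3 C := fun h => hreal h.of_subgroup
    obtain ⟨k, f, hf, ⟨e'⟩⟩ := ih _ hcard C rfl h2C hOC hrC
    refine ⟨k + 1, Fin.cons a f, ?_, ⟨?_⟩⟩
    · intro i
      refine Fin.cases ?_ (fun j => ?_) i
      · exact ha
      · exact hf j
    · exact m.symm.trans ((MulEquiv.prodCongr e e').trans
        (consEquiv (fun n => Matrix.ProjectiveSpecialLinearGroup (Fin 2) (GaloisField 3 (2 * n + 1))) a f))

end Cfsg.Agent.H722.Struct
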