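import Cfsg.Agent.S0908
import Cfsg.Agent.S0914
import Cfsg.Agent.Blocks.AvgIntegral
import Cfsg.Agent.Blocks.AvgTrace
import Cfsg.Agent.Blocks.HeightZero

/-!
# The sum of the squares of the degrees in a block

Write `|G|_p = p ^ a`, let the block `B` have defect group `D`; the members of `B` have degrees
`p ^ δ * m χ` with `p ^ δ = |G|_p / |D|`.  Then `∑ χ ∈ B, (m χ) ^ 2` is divisible by `|D|`.
-/

set_option autoImplicit false

namespace Cfsg.Agent.H722.BlockSq

open Cfsg
open scoped ComplexConjugate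

variable {G : Type*} [Group G]

/-- the least exponent of `p` in the degrees of the members of `B` -/
noncomputable def del (p : ℕ) (B : Set (IrrCharacter G)) : ℕ :=
  sInf ((fun ψ : IrrCharacter G => (charDegree (ψ : G → ℂ)).factorization p) '' B)

/-- the degree divided by the power of `p` common to all members of `B` -/
noncomputable def mul (p : ℕ) (B : Set (IrrCharacter G)) (χ : G → ℂ) : ℕ :=
  charDegree χ / p ^ del p B

theorem pow_dvd [Finite G] {p : ℕ} {B : Set (IrrCharacter G)} {χ : IrrCharacter G}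
    (hχ : χ ∈ B) : p ^ del p B ∣ charDegree (χ : G → ℂ) := by
  have h : del p B ≤ (charDegree (χ : G → ℂ)).factorization p := Nat.sInf_le ⟨χ, hχ, rfl⟩
  exact (pow_dvd_pow p h).trans (Nat.ordProj_dvd _ _)

theorem pow_mul [Finite G] {p : ℕ} {B : Set (IrrCharacter G)} {χ : IrrCharacter G}
    (hχ : χ ∈ B) : p ^ del p B * mul p B (χ : G → ℂ) = charDegree (χ : G → ℂ) :=
  Nat.mul_div_cancel' (pow_dvd hχ)

theorem mul_height [Finite G] {p : ℕ} (hp : p.Prime) {B : Set (IrrCharacter G)}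
    {χ : IrrCharacter G} (hχ : χ ∈ B) :
    (mul p B (χ : G → ℂ)).factorization p = blockHeight p B (χ : G → ℂ) := by
  have h := pow_mul (p := p) hχ
  have h0 := (Blocks.HeightZero.charDegree_cast χ).2
  have hm : mul p B (χ : G → ℂ) ≠ 0 := by
    intro h1
    rw [h1] at h
    exact h0 (by simpa using h.symm)
  have h2 : (charDegree (χ : G → ℂ)).factorization p =
      del p B + (mul p B (χ : G → ℂ)).factorization p := by
    rw [← h, Nat.factorization_mul (pow_ne_zero _ hp.ne_zero) hm, hp.factorization_pow]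
    simp
  unfold blockHeight
  rw [h2]
  unfold del
  omega

theorem not_dvd_iff [Finite G] {p : ℕ} (hp : p.Prime) {B : Set (IrrCharacter G)}
    {χ : IrrCharacter G} (hχ : χ ∈ B) :
    ¬ p ∣ mul p B (χ : G → ℂ) ↔ blockHeight p B (χ : G → ℂ) = 0 := by
  have h := pow_mul (p := p) hχ
  have h0 := (Blocks.HeightZero.charDegree_cast χ).2
  have hm : mul p B (χ : G → ℂ) ≠ 0 := by
    intro h1
    rw [h1] at h
    exact h0 (by simpa using h.symm)
  rw [← mul_height hp hχ]
  constructor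
  · exact fun h => Nat.factorization_eq_zero_of_not_dvd h
  · intro h h'
    have := hp.factorization_pos_of_dvd hm h'
    omega

/-- The sum of the squares. -/
theorem card_dvd [Finite G] {p : ℕ} [Fact p.Prime] {M : Ideal AlgInt} (hM : IsPModular p M)
    {B : Set (IrrCharacter G)} (hB : IsPBlock M B) {D : Subgroup G}
    (hD : IsDefectGroup p M B D) :
    Nat.card D ∣ ∑ᶠ χ ∈ B, (mul p B (χ : G → ℂ)) ^ 2 := by
  classical
  have := Fintype.ofFinite G
  have hp : p.Prime := hM.1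
  have : Finite (IrrCharacter G) := S0909.finite_irr
  have := Fintype.ofFinite (IrrCharacter G)
  obtain ⟨S⟩ : Nonempty (Sylow p G) := inferInstance
  set θ : G → ℂ := fun g => ∑ᶠ χ ∈ B, (mul p B (χ : G → ℂ) : ℂ) * (χ : G → ℂ) g with hθ
  have hsum : ∀ f : IrrCharacter G → ℂ, ∑ᶠ χ ∈ B, f χ = ∑ χ ∈ Finset.univ.filter (· ∈ B), f χ :=
    fun f => Blocks.Orthogonality.finsum_mem_eq_sum_filter B f
  have hθs : ∀ g, θ g = ∑ χ ∈ Finset.univ.filter (· ∈ B), (mul p B (χ : G → ℂ) : ℂ) * (χ : G → ℂ) g :=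
    fun g => hsum _
  have hvan : ∀ y : G, p ∣ orderOf y → θ y = 0 := by
    intro y hy
    have h1 : p ∣ orderOf y⁻¹ := by rwa [orderOf_inv]
    have h := S0907.result p M hM B hB 1 y⁻¹
      (by rw [orderOf_one]; exact fun h => hp.one_lt.ne' (Nat.dvd_one.1 h)) h1
    rw [hsum] at h
    have h2 : ((p : ℂ) ^ del p B) * θ y = 0 := by
      rw [hθs, Finset.mul_sum, ← h]
      refine Finset.sum_congr rfl fun χ hχ => ?_
      have hχB : χ ∈ B := (Finset.mem_filter.1 hχ).2
      rw [Blocks.Orthogonality.irr_apply_inv χ.2, Complex.conj_conj,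
        ← (Blocks.HeightZero.charDegree_cast χ).1, ← pow_mul (p := p) hχB]
      push_cast
      ring
    rcases mul_eq_zero.1 h2 with h3 | h3
    · exact absurd h3 (pow_ne_zero _ (by exact_mod_cast hp.ne_zero))
    · exact h3
  have hint := Blocks.AvgIntegral.isIntegral_div_card_of_vanish hp hvan (S : Subgroup G)
    S.isPGroup' 1 (by rw [orderOf_one]; exact fun h => hp.one_lt.ne' (Nat.dvd_one.1 h))
    (fun q _ => by simp) (by
      intro _
      have h1 : (Nat.card S : ℂ)⁻¹ * ∑ q : (S : Subgroup G), θ (1 * q) =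
          ∑ χ ∈ Finset.univ.filter (· ∈ B), (mul p B (χ : G → ℂ) : ℂ) *
            ((Nat.card (S : Subgroup G) : ℂ)⁻¹ * ∑ q : (S : Subgroup G), (χ : G → ℂ) (1 * q)) := by
        simp only [hθs]
        rw [Finset.sum_comm, Finset.mul_sum]
        refine Finset.sum_congr rfl fun χ _ => ?_
        rw [← Finset.mul_sum]
        ring
      have h2 : IsIntegral ℤ ((Nat.card S : ℂ)⁻¹ * ∑ q : (S : Subgroup G), θ (1 * q)) := by
        rw [h1]
        refine IsIntegral.sum _ fun χ _ => IsIntegral.mul ?_ ?_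
        · exact_mod_cast (isIntegral_algebraMap (R := ℤ) (A := ℂ) (x := ((mul p B (χ : G → ℂ) : ℕ) : ℤ)))
        · exact Blocks.AvgTrace.isIntegral_avg (Characters.Core.isIrr_isCharacter χ.2) (S : Subgroup G) 1 (fun u _ => Commute.one_left u)
      exact h2)
  have hθ1 : θ 1 = ((p ^ del p B * ∑ χ ∈ Finset.univ.filter (· ∈ B), (mul p B (χ : G → ℂ)) ^ 2 : ℕ) : ℂ) := by
    rw [hθs]
    push_cast
    rw [Finset.mul_sum]
    refine Finset.sum_congr rfl fun χ hχ => ?_
    have hχB : χ ∈ B := (Finset.mem_filter.1 hχ).2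
    rw [← (Blocks.HeightZero.charDegree_cast χ).1, ← pow_mul (p := p) hχB]
    push_cast
    ring
  have hdvd : Nat.card S ∣ p ^ del p B * ∑ χ ∈ Finset.univ.filter (· ∈ B), (mul p B (χ : G → ℂ)) ^ 2 := by
    rw [hθ1] at hint
    have hS0 : (Nat.card S : ℚ) ≠ 0 := by exact_mod_cast Nat.card_pos.ne'
    have h1 : IsIntegral ℤ (((((p ^ del p B * ∑ χ ∈ Finset.univ.filter (· ∈ B),
        (mul p B (χ : G → ℂ)) ^ 2 : ℕ) : ℚ) / (Nat.card S : ℚ) : ℚ) : ℂ)) := by
      push_cast at hint ⊢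
      exact hint
    have h2 : IsIntegral ℤ ((((p ^ del p B * ∑ χ ∈ Finset.univ.filter (· ∈ B),
        (mul p B (χ : G → ℂ)) ^ 2 : ℕ) : ℚ) / (Nat.card S : ℚ) : ℚ)) := by
      have := (isIntegral_algebraMap_iff (R := ℤ) (A := ℚ) (B := ℂ) (algebraMap ℚ ℂ).injective).1 h1
      exact this
    obtain ⟨n, hn⟩ := IsIntegrallyClosed.isIntegral_iff.1 h2
    have h3 : (((p ^ del p B * ∑ χ ∈ Finset.univ.filter (· ∈ B), (mul p B (χ : G → ℂ)) ^ 2 : ℕ) : ℤ) : ℚ) =
        (((Nat.card S : ℕ) : ℤ) : ℚ) * (n : ℚ) := by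
      have : (n : ℚ) = ((p ^ del p B * ∑ χ ∈ Finset.univ.filter (· ∈ B),
        (mul p B (χ : G → ℂ)) ^ 2 : ℕ) : ℚ) / (Nat.card S : ℚ) := hn
      rw [this]
      field_simp
      push_cast
      ring
    have h4 : ((p ^ del p B * ∑ χ ∈ Finset.univ.filter (· ∈ B), (mul p B (χ : G → ℂ)) ^ 2 : ℕ) : ℤ) =
        ((Nat.card S : ℕ) : ℤ) * n := by exact_mod_cast h3
    exact Int.natCast_dvd_natCast.1 ⟨n, h4⟩
  have hcD : Nat.card D = p ^ blockDefect p B := S0908.result p M hM B hB D hD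
  have hcS : Nat.card S = p ^ (Nat.card G).factorization p := S.card_eq_multiplicity
  have hle : del p B ≤ (Nat.card G).factorization p := by
    obtain ⟨χ, hχ⟩ := hB
    have hχB : χ ∈ B := by
      rw [hχ]
      intro g
      have hprime : M.IsPrime := Blocks.Local.isPrime_of_isPModular hM
      rw [sub_self]
      exact Blocks.Local.memLocalIdeal_zero
    exact ((Nat.sInf_le ⟨χ, hχB, rfl⟩ : del p B ≤ (charDegree (χ : G → ℂ)).factorization p)).trans
      ((Nat.factorization_le_iff_dvd (S0914.degree_spec χ).2.1.ne' Nat.card_pos.ne').2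
        (S0914.degree_spec χ).2.2 p)
  have hfin : ∑ᶠ χ ∈ B, (mul p B (χ : G → ℂ)) ^ 2 =
      ∑ χ ∈ Finset.univ.filter (· ∈ B), (mul p B (χ : G → ℂ)) ^ 2 := by
    rw [finsum_mem_eq_finite_toFinset_sum _ (Set.toFinite B)]
    refine Finset.sum_congr ?_ fun _ _ => rfl
    ext χ
    simp
  rw [hfin, hcD]
  have hbd : blockDefect p B = (Nat.card G).factorization p - del p B := rfl
  rw [hcS] at hdvd
  have hsplit : p ^ (Nat.card G).factorization p = p ^ del p B * p ^ blockDefect p B := by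
    rw [hbd, ← pow_add]
    congr 1
    omega
  rw [hsplit] at hdvd
  exact Nat.dvd_of_mul_dvd_mul_left (pow_pos hp.pos _) hdvd

end Cfsg.Agent.H722.BlockSq
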