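import Mathlib

/-!
# Counting with a free permutation of prime order preserving a weight
-/

set_option autoImplicit false

namespace Cfsg.Agent.H722.FreeCount

/-- A fixed-point-free permutation of prime order `p` preserving the weight `m`, prime to `p`, with
`∑ (m x)^2` divisible by `p ^ 2`, moves at least `2 * p` points, and at least `3 * p` points if
`p ≡ 3 (mod 4)`. -/
theorem count {X : Type*} [Finite X] [Nonempty X] {p : ℕ} [hp : Fact p.Prime] (σ : Equiv.Perm X)
    (hσ : σ ^ p = 1) (hfree : ∀ x, σ x ≠ x) (m : X → ℕ) (hm : ∀ x, ¬ p ∣ m x)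
    (hinv : ∀ x, m (σ x) = m x) (hsum : p ^ 2 ∣ ∑ᶠ x, m x ^ 2) :
    p ∣ Nat.card X ∧ 2 * p ≤ Nat.card X ∧ (p % 4 = 3 → 3 * p ≤ Nat.card X) := by
  classical
  have := Fintype.ofFinite X
  rw [finsum_eq_sum_of_fintype] at hsum
  have hx0 : X := Classical.arbitrary X
  have hne : σ ≠ 1 := fun h => hfree hx0 (by rw [h]; rfl)
  have hord : orderOf σ = p := orderOf_eq_prime hσ hne
  set H := Subgroup.zpowers σ with hH
  have hcardH : Nat.card H = p := by rw [hH, Nat.card_zpowers, hord]
  -- stabilizers are trivial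
  have hstab : ∀ x : X, MulAction.stabilizer H x = ⊥ := by
    intro x
    have h1 : Nat.card (MulAction.stabilizer H x) ∣ p := by
      rw [← hcardH]; exact Subgroup.card_subgroup_dvd_card _
    rcases (Nat.dvd_prime hp.out).1 h1 with h | h
    · exact Subgroup.card_eq_one.1 h
    · have h2 : MulAction.stabilizer H x = ⊤ := by
        apply Subgroup.eq_top_of_card_eq
        rw [h, hcardH]
      have h3 : (⟨σ, Subgroup.mem_zpowers σ⟩ : H) ∈ MulAction.stabilizer H x := by
        rw [h2]; exact Subgroup.mem_top _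
      exact absurd h3 (hfree x)
  have horb : ∀ x : X, Nat.card (MulAction.orbit H x) = p := by
    intro x
    have h1 := Nat.card_congr (MulAction.orbitEquivQuotientStabilizer H x)
    rw [h1, hstab x]
    have h2 : Nat.card (H ⧸ (⊥ : Subgroup H)) = Nat.card H := by
      rw [← Subgroup.index_eq_card, Subgroup.index_bot]
    rw [h2, hcardH]
  have hmz : ∀ (h : H) (x : X), m (h • x) = m x := by
    rintro ⟨g, hg⟩ x
    obtain ⟨k, rfl⟩ := Subgroup.mem_zpowers_iff.1 hg
    change m ((σ ^ k) x) = m x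
    induction k using Int.induction_on with
    | zero => rfl
    | succ i ih =>
      have h2 := ih (Subgroup.zpow_mem _ (Subgroup.mem_zpowers σ) _)
      rw [zpow_add_one, Equiv.Perm.mul_apply]
      have h3 : (σ ^ (i : ℤ)) (σ x) = σ ((σ ^ (i : ℤ)) x) := by
        rw [← Equiv.Perm.mul_apply, ← Equiv.Perm.mul_apply, (Commute.refl σ).zpow_left _]
      rw [h3, hinv, h2]
    | pred i ih =>
      have h2 := ih (Subgroup.zpow_mem _ (Subgroup.mem_zpowers σ) _)
      rw [zpow_sub_one, Equiv.Perm.mul_apply]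
      have h3 : (σ ^ (-(i : ℤ))) (σ⁻¹ x) = σ⁻¹ ((σ ^ (-(i : ℤ))) x) := by
        rw [← Equiv.Perm.mul_apply, ← Equiv.Perm.mul_apply,
          ((Commute.refl σ).zpow_left (-(i : ℤ))).inv_right]
      have h4 : ∀ y, m (σ⁻¹ y) = m y := fun y => by
        have := hinv (σ⁻¹ y)
        rw [← this]; simp
      rw [h3, h4, h2]
  set Q := Quotient (MulAction.orbitRel H X) with hQ
  have hfib : ∀ ω : Q, (Finset.univ.filter fun x : X => (Quotient.mk'' x : Q) = ω).card = p := by
    intro ω
    induction ω using Quotient.inductionOn' with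
    | h y =>
      rw [← horb y, Nat.card_eq_fintype_card, Fintype.card_subtype]
      congr 1
      ext x
      simp only [Finset.mem_filter, Finset.mem_univ, true_and]
      exact Quotient.eq''
  have hmQ : ∀ ω : Q, ∀ x : X, (Quotient.mk'' x : Q) = ω → m x = m (Quotient.out ω) := by
    intro ω x hx
    have h1 : (Quotient.mk'' x : Q) = Quotient.mk'' (Quotient.out ω) := by
      rw [hx]; exact (Quotient.out_eq' ω).symm
    have h2 : (MulAction.orbitRel H X).r x (Quotient.out ω) := Quotient.eq''.1 h1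
    obtain ⟨h, hh⟩ := h2
    rw [← hh]
    exact hmz h _
  have hcard : Nat.card X = p * Fintype.card Q := by
    rw [Nat.card_eq_fintype_card, ← Finset.card_univ,
      Finset.card_eq_sum_card_fiberwise (f := fun x : X => (Quotient.mk'' x : Q)) (t := Finset.univ)
        (fun _ _ => Finset.mem_coe.2 (Finset.mem_univ _)),
      Finset.sum_congr rfl (fun ω _ => hfib ω), Finset.sum_const, Finset.card_univ, smul_eq_mul,
      mul_comm]
  have hsq : ∑ x, m x ^ 2 = p * ∑ ω : Q, m (Quotient.out ω) ^ 2 := by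
    rw [← Finset.sum_fiberwise_of_maps_to (s := Finset.univ) (t := Finset.univ)
      (g := fun x : X => (Quotient.mk'' x : Q)) (fun _ _ => Finset.mem_univ _), Finset.mul_sum]
    refine Finset.sum_congr rfl fun ω _ => ?_
    rw [Finset.sum_congr rfl (g := fun _ => m (Quotient.out ω) ^ 2)
      (fun x hx => by rw [hmQ ω x (Finset.mem_filter.1 hx).2]), Finset.sum_const, hfib ω,
      smul_eq_mul]
  have hdvd : p ∣ ∑ ω : Q, m (Quotient.out ω) ^ 2 := by
    rw [hsq, pow_two] at hsum
    exact Nat.dvd_of_mul_dvd_mul_left hp.out.pos hsum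
  have hpos : 0 < Fintype.card Q := Fintype.card_pos_iff.2 ⟨Quotient.mk'' hx0⟩
  have hne1 : Fintype.card Q ≠ 1 := by
    intro h
    obtain ⟨ω, hω⟩ := Fintype.card_eq_one_iff.1 h
    have : (Finset.univ : Finset Q) = {ω} := by ext y; simp [hω y]
    rw [this, Finset.sum_singleton] at hdvd
    exact hm _ (hp.out.dvd_of_dvd_pow hdvd)
  have hne2 : p % 4 = 3 → Fintype.card Q ≠ 2 := by
    intro h4 h
    obtain ⟨a, b, hab, hu⟩ := Finset.card_eq_two.1 (show (Finset.univ : Finset Q).card = 2 by
      rw [Finset.card_univ]; exact h)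
    rw [hu, Finset.sum_pair hab] at hdvd
    have ha := hm (Quotient.out a)
    have hb := hm (Quotient.out b)
    have h5 : ((m (Quotient.out a) : ZMod p)) ^ 2 + (m (Quotient.out b) : ZMod p) ^ 2 = 0 := by
      exact_mod_cast (ZMod.natCast_eq_zero_iff _ _).2 hdvd
    have hb0 : (m (Quotient.out b) : ZMod p) ≠ 0 := fun h0 => hb ((ZMod.natCast_eq_zero_iff _ _).1 h0)
    have h6 : IsSquare (-1 : ZMod p) := by
      refine ⟨(m (Quotient.out a) : ZMod p) / (m (Quotient.out b) : ZMod p), ?_⟩
      field_simp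
      linear_combination -h5
    exact (ZMod.exists_sq_eq_neg_one_iff.1 h6) h4
  refine ⟨⟨_, hcard⟩, ?_, fun h => ?_⟩
  · rw [hcard, mul_comm]
    exact Nat.mul_le_mul_left _ (by omega)
  · have := hne2 h
    rw [hcard, mul_comm]
    exact Nat.mul_le_mul_left _ (by omega)

end Cfsg.Agent.H722.FreeCount
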