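import Cfsg.Agent.H850.Exist2
import Cfsg.Agent.CharactersDeep.TracePow

/-!
# The trace of an element of the Monster on the 196884-dimensional space (helper722)

`sum_F'` : `∑_w F'(w, g w) = κ (tr g - 1)`, the sum over the axes `w`; `trace_of_const` : if `F(w, g w) = f` for all
axes then `196883 (f - 1/6) = (47/6) (tr g - 1)`; `trace_int` : the trace is an integer.
-/

set_option autoImplicit false

namespace Cfsg.Agent.H722.MTrace

open Cfsg Cfsg.Agent.MonsterX Cfsg.Agent.MonsterX.Space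
open Cfsg.Agent.MonsterX.Conc Cfsg.Agent.MonsterX.InstData Cfsg.Agent.MonsterX.Model
open Cfsg.Agent.H850.TriA Cfsg.Agent.H850.Coord Cfsg.Agent.H850.Func
open Cfsg.Agent.H850.Bil Cfsg.Agent.H850.Exist Cfsg.Agent.H850.Exist2

/-- The sum over the axes. -/
noncomputable def T2 (x y : V) : ℚ := ∑ w ∈ Xf, F' w x * F' w y

theorem T2_inv {g : V ≃ₗ[ℚ] V} (hg : g ∈ Conc.G) (x y : V) : T2 (g x) (g y) = T2 x y := by
  unfold T2
  symm
  refine Finset.sum_bij (fun b _ => g b) (fun b hb => G_Xf hg hb) (fun a _ b _ h => g.injective h)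
    (fun b hb => ⟨g⁻¹ b, G_Xf (inv_mem hg) hb, g.apply_symm_apply b⟩) fun b _ => ?_
  rw [G_F' hg, G_F' hg]

theorem T2_BInv : BInv fun x y => (T2 x y : ℝ) := by
  refine ⟨?_, ?_, ?_, ?_, ?_, ?_⟩
  · intro x x' y
    rw [← Rat.cast_add]
    congr 1
    unfold T2
    rw [← Finset.sum_add_distrib]
    exact Finset.sum_congr rfl fun b _ => by rw [F'_lin]; ring
  · intro x y y'
    rw [← Rat.cast_add]
    congr 1
    unfold T2
    rw [← Finset.sum_add_distrib]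
    exact Finset.sum_congr rfl fun b _ => by rw [F'_lin]; ring
  · intro c x y
    rw [← Rat.cast_mul]
    congr 1
    unfold T2
    rw [Finset.mul_sum]
    exact Finset.sum_congr rfl fun b _ => by rw [F'_smul]; ring
  · intro c x y
    rw [← Rat.cast_mul]
    congr 1
    unfold T2
    rw [Finset.mul_sum]
    exact Finset.sum_congr rfl fun b _ => by rw [F'_smul]; ring
  · intro g hg x y
    rw [T2_inv hg]
  · intro x
    show ((T2 x I : ℚ) : ℝ) = 0
    unfold T2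
    rw [Finset.sum_eq_zero fun b _ => by rw [F'_I, mul_zero], Rat.cast_zero]

theorem form_I : InstEval.formIs 0 [] FieldsO.idB 2 2 = true := by decide +kernel

theorem F_a₀_I : F (vecV a0B) I = 2 := by
  have h := (InstEval.formIs_sound FieldsO.sym_idB form_I).1
  rw [W_nil] at h
  norm_num at h
  exact h

theorem F'_a₀ : F' (vecV a0B) (vecV a0B) = 47 / 6 := by
  have h1 : F (vecV a0B) (vecV a0B) = 8 := by
    have := Instance.mLat.F_a₀
    rwa [M_F, M_a₀] at this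
  unfold F'
  rw [h1, F_symm I, F_a₀_I]
  norm_num

/-- **The second moment.** -/
theorem exists_κ : ∃ κ : ℚ, ∀ x y, T2 x y = κ * F' x y := by
  obtain ⟨c, hc⟩ := bil T2_BInv
  have h0 := hc (vecV a0B) (vecV a0B)
  refine ⟨T2 (vecV a0B) (vecV a0B) / (47 / 6), fun x y => ?_⟩
  have hc' : c = ((T2 (vecV a0B) (vecV a0B) / (47 / 6) : ℚ) : ℝ) := by
    have h1 : (T2 (vecV a0B) (vecV a0B) : ℝ) = c * ((F' (vecV a0B) (vecV a0B) : ℚ) : ℝ) := h0
    rw [F'_a₀] at h1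
    push_cast at h1 ⊢
    rw [h1]
    field_simp
  have h2 : ((T2 x y : ℚ) : ℝ) = ((T2 (vecV a0B) (vecV a0B) / (47 / 6) * F' x y : ℚ) : ℝ) := by
    rw [Rat.cast_mul, ← hc']
    exact hc x y
  exact_mod_cast h2

/-! ### The operators -/

/-- The projection on the complement of the identity matrix. -/
noncomputable def πI : V →ₗ[ℚ] V := LinearMap.id - ((F.flip I).smulRight ((1 / 24 : ℚ) • I))

theorem πI_apply (x : V) : πI x = x - (F x I / 24) • I := by
  show x - (F x I) • ((1 / 24 : ℚ) • I) = _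
  rw [smul_smul]
  congr 2
  ring

/-- `x ↦ F'(w, x)`. -/
noncomputable def fw (w : V) : V →ₗ[ℚ] ℚ where
  toFun x := F' w x
  map_add' x y := F'_lin w x y
  map_smul' c x := by rw [F'_smul]; rfl

/-- The rank one operator of an axis. -/
noncomputable def Rw (w : V) : V →ₗ[ℚ] V := (fw w).smulRight (πI w)

theorem F_πI (x y : V) : F (πI x) y = F' x y := by
  rw [πI_apply, map_sub, map_smul, LinearMap.sub_apply, LinearMap.smul_apply, smul_eq_mul]
  unfold F'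
  ring

theorem sum_Rw {κ : ℚ} (hκ : ∀ x y, T2 x y = κ * F' x y) : ∑ w ∈ Xf, Rw w = κ • πI := by
  apply LinearMap.ext
  intro x
  rw [← sub_eq_zero]
  apply F_nondeg
  intro y
  rw [map_sub, LinearMap.sub_apply, sub_eq_zero, LinearMap.smul_apply, map_smul, LinearMap.smul_apply, smul_eq_mul,
    F_πI, ← hκ, LinearMap.sum_apply, map_sum, LinearMap.sum_apply]
  unfold T2
  refine Finset.sum_congr rfl fun w _ => ?_
  show F (F' w x • πI w) y = _
  rw [map_smul, LinearMap.smul_apply, smul_eq_mul, F_πI]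

theorem trace_smulRight' (f : V →ₗ[ℚ] ℚ) (v : V) : LinearMap.trace ℚ V (f.smulRight v) = f v :=
  LinearMap.trace_smulRight f v

/-- **The trace formula.** -/
theorem sum_F' {κ : ℚ} (hκ : ∀ x y, T2 x y = κ * F' x y) {g : V ≃ₗ[ℚ] V} (hg : g ∈ Conc.G) :
    ∑ w ∈ Xf, F' w (g w) = κ * (LinearMap.trace ℚ V (g : V →ₗ[ℚ] V) - 1) := by
  have h1 : (g : V →ₗ[ℚ] V) ∘ₗ (∑ w ∈ Xf, Rw w) = κ • ((g : V →ₗ[ℚ] V) ∘ₗ πI) := by
    rw [sum_Rw hκ, LinearMap.comp_smul]
  have h2 := congrArg (LinearMap.trace ℚ V) h1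
  have h3 : (g : V →ₗ[ℚ] V) ∘ₗ (∑ w ∈ Xf, Rw w) = ∑ w ∈ Xf, (fw w).smulRight (g (πI w)) := by
    apply LinearMap.ext
    intro x
    rw [LinearMap.comp_apply, LinearMap.sum_apply, LinearMap.sum_apply, map_sum]
    refine Finset.sum_congr rfl fun w _ => ?_
    exact map_smul g _ _
  have h4 : (g : V →ₗ[ℚ] V) ∘ₗ πI = (g : V →ₗ[ℚ] V) - (F.flip I).smulRight ((1 / 24 : ℚ) • I) := by
    apply LinearMap.ext
    intro x
    show g (x - (F.flip I x) • ((1 / 24 : ℚ) • I)) = g x - (F.flip I x) • ((1 / 24 : ℚ) • I)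
    rw [map_sub, map_smul, map_smul, G_I hg]
  have h5 : F.flip I ((1 / 24 : ℚ) • I) = 1 := by
    show F ((1 / 24 : ℚ) • I) I = 1
    rw [map_smul, LinearMap.smul_apply, smul_eq_mul, F_I_I]
    norm_num
  have h6 : LinearMap.trace ℚ V ((g : V →ₗ[ℚ] V) - (F.flip I).smulRight ((1 / 24 : ℚ) • I)) =
      LinearMap.trace ℚ V (g : V →ₗ[ℚ] V) - 1 := by
    have h7 := trace_smulRight' (F.flip I) ((1 / 24 : ℚ) • I)
    rw [h5] at h7
    rw [eq_sub_iff_add_eq]
    nth_rewrite 2 [← h7]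
    rw [← map_add]
    congr 1
    exact LinearMap.ext fun x => sub_add_cancel _ _
  rw [h3, h4, map_sum, map_smul, smul_eq_mul, h6] at h2
  simp only [trace_smulRight'] at h2
  rw [← h2]
  refine Finset.sum_congr rfl fun w _ => ?_
  show F' w (g w) = F' w (g (πI w))
  have e : g (πI w) = g w + (-(F w I / 24)) • I := by
    rw [πI_apply, map_sub, map_smul, G_I hg, sub_eq_add_neg]
    congr 1
    exact (neg_smul _ _).symm
  rw [e, F'_lin, F'_smul, F'_I, mul_zero, add_zero]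

theorem a₀_mem : vecV a0B ∈ Xf := by
  rw [mem_Xf]
  refine ⟨(0 : Fin 12), 1, M.C.one_mem, ?_⟩
  have h := d_j₀
  rw [show M.u₀ + M.e₀ = M.a₀ from rfl, M_a₀] at h
  exact h.symm

theorem exists_of_mem {w : V} (hw : w ∈ Xf) : ∃ g ∈ Conc.G, g (vecV a0B) = w := by
  rw [mem_Xf] at hw
  obtain ⟨j, k, hk, rfl⟩ := hw
  obtain ⟨h, hh, h1⟩ := Instance.trans j
  refine ⟨k * h⁻¹, mul_mem (C_le_G hk) (inv_mem hh), ?_⟩
  rw [M_a₀] at h1
  rw [← h1]
  show k (h⁻¹ (h (M.d j))) = k (M.d j)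
  congr 1
  exact h.symm_apply_apply _

theorem F_I_of_mem {w : V} (hw : w ∈ Xf) : F w I = 2 := by
  obtain ⟨g, hg, rfl⟩ := exists_of_mem hw
  have h1 := G_isom g hg (vecV a0B) I
  rw [G_I hg] at h1
  rw [h1, F_a₀_I]

theorem F_self_of_mem {w : V} (hw : w ∈ Xf) : F w w = 8 := by
  obtain ⟨g, hg, rfl⟩ := exists_of_mem hw
  rw [G_isom g hg]
  have := Instance.mLat.F_a₀
  rwa [M_F, M_a₀] at this

theorem F'_of_mem {v w : V} (hv : v ∈ Xf) (hw : w ∈ Xf) : F' v w = F v w - 1 / 6 := by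
  unfold F'
  rw [F_I_of_mem hv, F_symm I, F_I_of_mem hw]
  norm_num

/-- **The trace formula for an element with constant inner products.** -/
theorem trace_of_const {g : V ≃ₗ[ℚ] V} (hg : g ∈ Conc.G) {f : ℚ} (h : ∀ w ∈ Xf, F w (g w) = f) :
    196883 * (f - 1 / 6) = 47 / 6 * (LinearMap.trace ℚ V (g : V →ₗ[ℚ] V) - 1) := by
  obtain ⟨κ, hκ⟩ := exists_κ
  have h1 := sum_F' hκ (one_mem Conc.G)
  have h2 := sum_F' hκ hg
  have e1 : ∑ w ∈ Xf, F' w ((1 : V ≃ₗ[ℚ] V) w) = (Xf.card : ℚ) * (47 / 6) := by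
    rw [← nsmul_eq_mul]
    refine Finset.sum_eq_card_nsmul fun w hw => ?_
    show F' w w = _
    rw [F'_of_mem hw hw, F_self_of_mem hw]
    norm_num
  have e2 : ∑ w ∈ Xf, F' w (g w) = (Xf.card : ℚ) * (f - 1 / 6) := by
    rw [← nsmul_eq_mul]
    refine Finset.sum_eq_card_nsmul fun w hw => ?_
    rw [F'_of_mem hw (G_Xf hg hw), h w hw]
  have e3 : LinearMap.trace ℚ V ((1 : V ≃ₗ[ℚ] V) : V →ₗ[ℚ] V) = 196884 := by
    have h3 : ((1 : V ≃ₗ[ℚ] V) : V →ₗ[ℚ] V) = 1 := rfl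
    rw [h3, LinearMap.trace_one, M_finrank]
    norm_num
  rw [e1, e3] at h1
  rw [e2] at h2
  have hX : (Xf.card : ℚ) ≠ 0 := by
    have := Finset.card_pos.2 ⟨_, a₀_mem⟩
    exact_mod_cast this.ne'
  have hκ0 : κ = Xf.card * (47 / 6) / 196883 := by
    rw [h1]; norm_num
  rw [hκ0] at h2
  field_simp at h2 ⊢
  linarith

theorem trace_int {g : V ≃ₗ[ℚ] V} {n : ℕ} (hn : n ≠ 0) (hg : g ^ n = 1) :
    ∃ m : ℤ, LinearMap.trace ℚ V (g : V →ₗ[ℚ] V) = m := by
  have h1 : (g : V →ₗ[ℚ] V) ^ n = 1 := by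
    have h2 : ∀ k : ℕ, (g : V →ₗ[ℚ] V) ^ k = ((g ^ k : V ≃ₗ[ℚ] V) : V →ₗ[ℚ] V) := by
      intro k
      induction k with
      | zero => rfl
      | succ k ih => rw [_root_.pow_succ, ih, _root_.pow_succ]; rfl
    rw [h2, hg]
    rfl
  have h2 : ((g : V →ₗ[ℚ] V).baseChange ℂ) ^ n = 1 := by
    rw [← LinearMap.baseChange_pow, h1]
    exact LinearMap.baseChange_one _ _
  have h3 : ((g : V →ₗ[ℚ] V).baseChange ℂ) ^ (n + 1) = (g : V →ₗ[ℚ] V).baseChange ℂ := by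
    rw [_root_.pow_succ, h2, one_mul]
  have h4 := CharactersDeep.TracePow.isIntegral_trace_of_pow_succ_eq _ n hn h3
  rw [LinearMap.trace_baseChange] at h4
  have h5 : IsIntegral ℤ (LinearMap.trace ℚ V (g : V →ₗ[ℚ] V)) :=
    (isIntegral_algebraMap_iff (algebraMap ℚ ℂ).injective).1 h4
  obtain ⟨m, hm⟩ := IsIntegrallyClosed.isIntegral_iff.1 h5
  exact ⟨m, hm.symm⟩

end Cfsg.Agent.H722.MTrace
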