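import Cfsg.Agent.H650.StarDat

/-!
# A fixed-point-free permutation of order `p` of the characters of height zero (helper722)

If the focal subgroup of the block fusion system is proper, an element of order `p` of the group of
linear characters of `P / foc(F)` acts through the Broué–Puig star action without fixed points on the
characters of height zero of the block, preserving the degrees.
-/

set_option autoImplicit false

namespace Cfsg.Agent.H722.StarInput

open Cfsg Cfsg.Agent.H650 Cfsg.Agent.H651

theorem exists_perm {G : Type*} [Group G] [Fintype G] (p : ℕ) [Fact p.Prime]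
    (M : Ideal Cfsg.AlgInt) (hM : Cfsg.IsPModular p M) (B : Set (Cfsg.IrrCharacter G))
    (P : Subgroup G) (e : Set (Cfsg.IrrCharacter (Subgroup.centralizer (P : Set G))))
    (hmax : Cfsg.IsMaximalBrauerPair p M B P e) (F : Cfsg.FusionSystem P)
    (hF : Cfsg.IsBlockFusionSystemOn p M B P e F) (hfoc : F.focalSubgroup < P) :
    ∃ σ : Equiv.Perm {χ : IrrCharacter G // χ ∈ B ∧ blockHeight p B (χ : G → ℂ) = 0},
      σ ^ p = 1 ∧ (∀ x, σ x ≠ x) ∧
      ∀ x, charDegree ((σ x).1 : G → ℂ) = charDegree (x.1 : G → ℂ) := by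
  have D : Dat p M B P e F := dat_of hM hmax hF
  have hPp : IsPGroup p P := hmax.1.1.1
  let _ := D.mulAction 0
  have hcard : Nat.card (Lam F) = (F.focalSubgroup.subgroupOf P).index :=
    card_ann fun x y => focal_conj_mem x y
  have hne : (F.focalSubgroup.subgroupOf P).index ≠ 1 := by
    rw [ne_eq, Subgroup.index_eq_one, Subgroup.subgroupOf_eq_top]
    exact fun h => absurd h (not_le_of_gt hfoc)
  have hdvd : p ∣ Nat.card (Lam F) := by
    obtain ⟨n, hn⟩ := hPp.index (F.focalSubgroup.subgroupOf P)
    rw [hcard, hn]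
    rcases Nat.eq_zero_or_pos n with h | h
    · exfalso
      rw [hn, h, pow_zero] at hne
      exact hne rfl
    · exact dvd_pow_self p h.ne'
  have hfin : Finite (Lam F) := by
    refine Nat.finite_of_card_ne_zero ?_
    rw [hcard]
    exact Subgroup.index_ne_zero_of_finite
  obtain ⟨l, hl⟩ := exists_prime_orderOf_dvd_card' p hdvd
  refine ⟨MulAction.toPerm l, ?_, ?_, ?_⟩
  · have h1 : (MulAction.toPermHom (Lam F) (Ht p B 0)) l = MulAction.toPerm l := rfl
    have h2 : l ^ p = 1 := orderOf_dvd_iff_pow_eq_one.1 (dvd_of_eq hl)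
    rw [← h1, ← map_pow, h2, map_one]
  · intro χ h
    have h1 : l • χ = χ := h
    have h3 : star p M ⟨P, e⟩ (ext0 P (l : P →* ℂˣ)) ((χ : IrrCharacter G) : G → ℂ) =
        ((χ : IrrCharacter G) : G → ℂ) := by
      rw [← D.smul_coe 0 l χ]
      exact congrArg (fun ψ : Ht p B 0 => ((ψ : IrrCharacter G) : G → ℂ)) h1
    have h4 : l = 1 := Subtype.ext (D.free l.2 χ.2.1 χ.2.2 h3)
    rw [h4, orderOf_one] at hl
    exact (Fact.out : p.Prime).ne_one hl.symm
  · intro χ
    unfold charDegree
    have h1 : (((MulAction.toPerm l χ : Ht p B 0) : IrrCharacter G) : G → ℂ) 1 =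
        ((χ : IrrCharacter G) : G → ℂ) 1 := D.act_apply_one l χ.1 χ.2.1
    rw [h1]

end Cfsg.Agent.H722.StarInput
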